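import Cfsg.Agent.Lib.TIInv.Basic
import Cfsg.Agent.Lib.AbelCent.SL
import Cfsg.Agent.Lib.Involutions.BaerSuzuki
import Cfsg.Agent.Lib.TwoGroups.Lifts
import Cfsg.Agent.Lib.Solvable.Coprime
import Cfsg.Agent.S1230
import Cfsg.Prelude.Def_Transfer

/-!
The case `C = ⟨z⟩`: `PSL(2, 2^e)` or an affine group.
-/

set_option autoImplicit false
set_option linter.style.haveILetI false
set_option linter.unusedSectionVars false

namespace Cfsg.Agent.TIInv

open Cfsg.Agent.Invol

universe u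

variable {G : Type u} [Group G] [Finite G]

/-- `IsPGroup 2` from exponent two. -/
theorem isPGroup_of_sq {H : Subgroup G} (hH : ∀ x ∈ H, x * x = 1) : IsPGroup 2 H :=
  fun x => ⟨1, Subtype.ext (by rw [pow_one, pow_two]; exact hH x x.2)⟩

theorem isPGroup_closure_pair {u u' : G} (hu : orderOf u = 2) (hu' : orderOf u' = 2) {j : ℕ}
    (hj : orderOf (u * u') = 2 ^ j) : IsPGroup 2 ↥(Subgroup.zpowers u ⊔ Subgroup.zpowers u') := by
  haveI : Fact (Nat.Prime 2) := ⟨Nat.prime_two⟩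
  have h1 : IsPGroup 2 (Subgroup.zpowers u) := IsPGroup.of_card (n := 1) (by rw [Nat.card_zpowers, hu, pow_one])
  have h2 : IsPGroup 2 (Subgroup.zpowers (u * u')) := IsPGroup.of_card (n := j) (by rw [Nat.card_zpowers, hj])
  have huu : ∀ n : ℤ, u * (u * u') ^ n * u = ((u * u') ^ n)⁻¹ := fun n => by
    have e : u * (u * u') * u⁻¹ = (u * u')⁻¹ := by
      rw [mul_inv_rev, inv_self hu, inv_self hu', ← mul_assoc, mul_self hu, one_mul]
    rw [← inv_zpow, ← e, _root_.conj_zpow, inv_self hu]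
  have hn : Subgroup.zpowers u ≤ Subgroup.normalizer ((Subgroup.zpowers (u * u') : Subgroup G) : Set G) := by
    rw [Subgroup.zpowers_le, Subgroup.mem_normalizer_iff]
    intro x
    constructor
    · rintro ⟨n, rfl⟩
      rw [inv_self hu]
      exact ⟨-n, by simp only [huu, zpow_neg]⟩
    · rintro ⟨n, hn⟩
      refine ⟨-n, ?_⟩
      have hn' : (u * u') ^ n = u * x * u⁻¹ := hn
      show (u * u') ^ (-n) = x
      rw [zpow_neg, ← huu, hn', inv_self hu, show u * (u * x * u) * u = (u * u) * x * (u * u) by group,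
        mul_self hu, one_mul, mul_one]
  have h3 : IsPGroup 2 ↥(Subgroup.zpowers u ⊔ Subgroup.zpowers (u * u')) := h1.to_sup_of_normal_right' h2 hn
  refine h3.to_le (sup_le le_sup_left ?_)
  rw [Subgroup.zpowers_le]
  have := mul_mem (Subgroup.mem_sup_left (T := Subgroup.zpowers (u * u')) (Subgroup.mem_zpowers u))
    (Subgroup.mem_sup_right (S := Subgroup.zpowers u) (Subgroup.mem_zpowers (u * u')))
  rwa [← mul_assoc, mul_self hu, one_mul] at this

namespace Hyp

variable {M : Subgroup G} {z : G} (h : Hyp M z) (hC : ∀ c ∈ h.C, c = 1 ∨ c = z)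
  (hq : 5 ≤ Nat.card (Cz z)) (hE : ∀ x ∈ Cz z, x * x = 1)
include h hC hq hE

theorem card_C : Nat.card h.C = 2 := by
  have e : h.C = Subgroup.zpowers z := le_antisymm (fun c hc => (hC c hc).elim (fun e => e ▸ one_mem _)
    fun e => e ▸ Subgroup.mem_zpowers z) (Subgroup.zpowers_le.2 h.z_mem_C)
  rw [e, Nat.card_zpowers, h.hz]

/-- The number of conjugates of `z` centralizing `z`. -/
noncomputable def s (_h : Hyp M z) : ℕ := Nat.card {v : G // (v * z = z * v) ∧ IsConj z v}

theorem block (t : G) (ht : orderOf t = 2) :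
    ∃ a ∈ M, ∃ v : G, v * z = z * v ∧ v ≠ 1 ∧ t = a * v * a⁻¹ := by
  by_cases htN : t ∈ h.N
  · obtain ⟨a, ha, rfl⟩ := h.invol_N htN ht
    exact ⟨a, ha, z, rfl, ne_one h.hz, rfl⟩
  · obtain ⟨a, ha, b, hb, v, hvo, hv, hvN, rfl⟩ := h.decomp htN
    have hi : b⁻¹ * v * a⁻¹ = a * v * b := by
      have := inv_self ht
      rw [mul_inv_rev, mul_inv_rev, inv_self hvo] at this
      rw [← this]; group
    obtain ⟨e1, -, -⟩ := h.unique (inv_mem hb) ha (inv_mem ha) hb hv hv hvN hi
    refine ⟨a, ha, v, hv, ne_one hvo, ?_⟩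
    rw [show a⁻¹ = b by rw [← e1, inv_inv]]

theorem block_inj {a a' v v' : G} (ha : a ∈ M) (ha' : a' ∈ M) (hv : v * z = z * v) (hv1 : v ≠ 1)
    (hv' : v' * z = z * v') (hv1' : v' ≠ 1) (e : a * v * a⁻¹ = a' * v' * a'⁻¹) : a = a' ∧ v = v' := by
  by_cases hvN : v ∈ h.N
  · have hvz : v = z := (hC v (h.mem_C_of_N hv hvN)).resolve_left hv1
    have hvN' : v' ∈ h.N := by
      rw [show v' = a'⁻¹ * (a * v * a⁻¹) * a' by rw [e]; group]
      exact mul_mem (mul_mem (inv_mem (h.M_le_N ha'))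
        (mul_mem (mul_mem (h.M_le_N ha) hvN) (inv_mem (h.M_le_N ha)))) (h.M_le_N ha')
    have hvz' : v' = z := (hC v' (h.mem_C_of_N hv' hvN')).resolve_left hv1'
    subst hvz
    subst hvz'
    exact ⟨h.conj_z_inj ha ha' e, rfl⟩
  · obtain ⟨e1, e2, -⟩ := h.unique ha ha' (inv_mem ha) (inv_mem ha') hv hv' hvN e
    exact ⟨e1, e2⟩

theorem card_conj : Nat.card {t : G // IsConj z t} = Nat.card M * h.s := by
  rw [s, ← Nat.card_prod]
  refine (Nat.card_eq_of_bijective (fun p : ↥M × {v : G // (v * z = z * v) ∧ IsConj z v} =>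
    (⟨(p.1 : G) * p.2.1 * (p.1 : G)⁻¹, p.2.2.2.trans (isConj_iff.2 ⟨p.1, rfl⟩)⟩ : {t : G // IsConj z t}))
    ⟨?_, ?_⟩).symm
  · have hne : ∀ v : {v : G // (v * z = z * v) ∧ IsConj z v}, v.1 ≠ 1 := fun v e => by
      have h1 := v.2.2
      rw [e, isConj_one_left] at h1
      exact ne_one h.hz h1
    rintro ⟨a, v⟩ ⟨a', v'⟩ e
    obtain ⟨e1, e2⟩ := h.block_inj hC hq hE a.2 a'.2 v.2.1 (hne v) v'.2.1 (hne v') (congrArg Subtype.val e)
    exact Prod.ext (Subtype.ext e1) (Subtype.ext e2)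
  · rintro ⟨t, ht⟩
    obtain ⟨g, hg⟩ := isConj_iff.1 ht
    obtain ⟨a, ha, v, hv, hv1, e⟩ := h.block hC hq hE t (by rw [← hg, order_conj, h.hz])
    refine ⟨(⟨a, ha⟩, ⟨v, hv, ?_⟩), Subtype.ext e.symm⟩
    exact ht.trans (isConj_iff.2 ⟨a⁻¹, by rw [e]; group⟩)

theorem count : Nat.card (Cz z) * (Nat.card M * h.s) = Nat.card G := by
  rw [← h.card_conj hC hq hE]
  have e : ((ConjClasses.mk z).carrier).ncard = Nat.card {t : G // IsConj z t} := by
    rw [← Nat.card_coe_set_eq]
    exact Nat.card_congr (Equiv.subtypeEquivRight fun t => by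
      rw [ConjClasses.mem_carrier_iff_mk_eq, ConjClasses.mk_eq_mk_iff_isConj, isConj_comm])
  rw [← e, ← Subgroup.card_mul_index (Cz z)]
  congr 1
  rw [← ConjAct.orbit_eq_carrier_conjClasses, ← MulAction.index_stabilizer]
  have hstab : Subgroup.map (ConjAct.ofConjAct (G := G)).toMonoidHom (MulAction.stabilizer (ConjAct G) z) = Cz z := by
    ext x
    rw [Subgroup.mem_map, mem_Cz]
    constructor
    · rintro ⟨y, hy, rfl⟩
      rw [MulAction.mem_stabilizer_iff, ConjAct.smul_def] at hy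
      exact mul_inv_eq_iff_eq_mul.1 hy
    · intro hx
      refine ⟨ConjAct.toConjAct x, ?_, ConjAct.ofConjAct_toConjAct x⟩
      rw [MulAction.mem_stabilizer_iff, ConjAct.smul_def, ConjAct.ofConjAct_toConjAct]
      exact mul_inv_eq_iff_eq_mul.2 hx
  rw [← hstab, Subgroup.index_map_of_bijective]
  exact (ConjAct.ofConjAct (G := G)).bijective

theorem card_cz : ∃ n : ℕ, 2 ≤ n ∧ Nat.card (Cz z) = 2 * 2 ^ n := by
  haveI : Fact (Nat.Prime 2) := ⟨Nat.prime_two⟩
  obtain ⟨n, hn⟩ := IsPGroup.iff_card.1 (isPGroup_of_sq hE)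
  rcases Nat.lt_or_ge n 3 with h3 | h3
  · exfalso
    rw [hn] at hq
    have : 2 ^ n ≤ 2 ^ 2 := Nat.pow_le_pow_right two_pos (by omega)
    omega
  · exact ⟨n - 1, by omega, by rw [hn, ← pow_succ']; congr 1; omega⟩

/-- The two possibilities. -/
theorem arith : ∃ n : ℕ, 2 ≤ n ∧ Nat.card (Cz z) = 2 * 2 ^ n ∧
    ((Nat.card M = 2 * 2 ^ n + 1 ∧ h.s + 1 = 2 * 2 ^ n) ∨ (Nat.card M = 2 ^ n + 1 ∧ h.s = 2 ^ n)) := by
  obtain ⟨n, hn2, hn⟩ := h.card_cz hC hq hE
  refine ⟨n, hn2, hn, ?_⟩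
  have hs1 : h.s + 1 ≤ Nat.card (Cz z) := by
    classical
    haveI := Fintype.ofFinite G
    let f : {v : G // (v * z = z * v) ∧ IsConj z v} → {x : Cz z // x ≠ 1} := fun v =>
      ⟨⟨v.1, mem_Cz.2 v.2.1⟩, fun e => by
        have e' : v.1 = 1 := congrArg Subtype.val e
        have h1 := v.2.2
        rw [e', isConj_one_left] at h1
        exact ne_one h.hz h1⟩
    have := Nat.card_le_card_of_injective f fun a b e =>
      Subtype.ext (congrArg (fun x : {x : Cz z // x ≠ 1} => ((x : Cz z) : G)) e)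
    rw [Nat.card_eq_fintype_card (α := {x : Cz z // x ≠ 1}), Fintype.card_subtype_compl,
      Fintype.card_subtype_eq, ← Nat.card_eq_fintype_card (α := Cz z)] at this
    have hpos : 0 < Nat.card (Cz z) := Nat.card_pos
    unfold s
    omega
  have hG := h.card_group
  rw [← h.count hC hq hE, h.card_N, h.card_C hC hq hE, hn] at hG
  rw [hn] at hs1
  set m := Nat.card M with hm
  set hh := 2 ^ n with hhh
  have hh4 : 4 ≤ hh := le_trans (by norm_num) (Nat.pow_le_pow_right two_pos hn2)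
  have hm3 : 3 ≤ m := by
    have h1 : 1 < m := Subgroup.one_lt_card_iff_ne_bot M |>.2 h.ne
    obtain ⟨i, hi⟩ := h.odd_card
    omega
  obtain ⟨k, hk⟩ : ∃ k, hh = k + 1 := ⟨hh - 1, by omega⟩
  have key : hh * h.s = 1 + m * k := by
    have h1 : 2 * m * (hh * h.s) + 2 * m * m = 2 * m * (1 + m * hh) := by
      calc 2 * m * (hh * h.s) + 2 * m * m = 2 * hh * (m * h.s) + m * m * 2 := by ring
        _ = m * 2 + m * m * (2 * hh) := hG
        _ = 2 * m * (1 + m * hh) := by ring
    rw [hk] at h1 ⊢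
    have h2 : 2 * m * ((k + 1) * h.s + m) = 2 * m * (1 + m * k + m) := by
      rw [mul_add]; linarith
    have := Nat.eq_of_mul_eq_mul_left (by omega) h2
    omega
  have hdvd : hh ∣ m - 1 := by
    have e : (m - 1) + (1 + m * k) = hh * m := by
      rw [hk]; ring_nf; omega
    refine (Nat.dvd_add_right (dvd_mul_right hh h.s)).1 ?_
    rw [key, add_comm, e]
    exact dvd_mul_right _ _
  obtain ⟨t, ht⟩ := hdvd
  have hmt : m = t * hh + 1 := by rw [mul_comm]; omega
  have hst : h.s = 1 + t * k := by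
    have e : hh * h.s = hh * (1 + t * k) := by rw [key, hmt, hk]; ring
    exact Nat.eq_of_mul_eq_mul_left (by omega) e
  have ht0 : t ≠ 0 := fun e => by subst e; omega
  have ht2 : t ≤ 2 := by
    by_contra hc
    have : 3 * k ≤ t * k := Nat.mul_le_mul_right k (by omega)
    omega
  interval_cases t
  · exact absurd rfl ht0
  · exact Or.inr ⟨by omega, by omega⟩
  · exact Or.inl ⟨by omega, by omega⟩

/-- First possibility: `PSL(2, 2^e)`. -/
theorem psl {n : ℕ} (hn2 : 2 ≤ n) (hn : Nat.card (Cz z) = 2 * 2 ^ n) (hm : Nat.card M = 2 * 2 ^ n + 1)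
    (hs : h.s + 1 = 2 * 2 ^ n) :
    ∃ (F : Type) (_ : Field F) (_ : Fintype F) (e : ℕ), 1 < e ∧ Fintype.card F = 2 ^ e ∧ IsCyclic ↥M ∧
      Nat.card M = 2 ^ e + 1 ∧ Nonempty (G ≃* Matrix.ProjectiveSpecialLinearGroup (Fin 2) F) := by
  classical
  haveI : Fact (Nat.Prime 2) := ⟨Nat.prime_two⟩
  haveI := Fintype.ofFinite G
  have hall : ∀ t : G, orderOf t = 2 → IsConj z t := by
    have hconjv : ∀ v : G, v * z = z * v → v ≠ 1 → IsConj z v := by
      intro v hv hv1
      by_contra hvc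
      let f : {w : G // (w * z = z * w) ∧ IsConj z w} ⊕ Bool → Cz z
        | Sum.inl w => ⟨w.1, mem_Cz.2 w.2.1⟩
        | Sum.inr true => ⟨v, mem_Cz.2 hv⟩
        | Sum.inr false => 1
      have hinj : Function.Injective f := by
        rintro (a | (_ | _)) (b | (_ | _)) e <;> first | rfl | skip
        · exact congrArg Sum.inl (Subtype.ext (congrArg Subtype.val e :))
        · have e' : a.1 = 1 := congrArg Subtype.val e
          have h1 := a.2.2
          rw [e', isConj_one_left] at h1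
          exact absurd h1 (ne_one h.hz)
        · have e' : a.1 = v := congrArg Subtype.val e
          exact absurd (e' ▸ a.2.2) hvc
        · have e' : (1 : G) = b.1 := congrArg Subtype.val e
          have h1 := b.2.2
          rw [← e', isConj_one_left] at h1
          exact absurd h1 (ne_one h.hz)
        · exact absurd (congrArg Subtype.val e : (1 : G) = v).symm hv1
        · have e' : v = b.1 := congrArg Subtype.val e
          exact absurd (e'.symm ▸ b.2.2) hvc
        · exact absurd (congrArg Subtype.val e : v = (1 : G)) hv1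
      have := Nat.card_le_card_of_injective f hinj
      rw [Nat.card_sum, Nat.card_eq_fintype_card (α := Bool), Fintype.card_bool, hn] at this
      unfold s at hs
      omega
    intro t ht
    obtain ⟨a, ha, v, hv, hv1, rfl⟩ := h.block hC hq hE t ht
    exact (hconjv v hv hv1).trans (isConj_iff.2 ⟨a, rfl⟩)
  obtain ⟨T, hT⟩ := (isPGroup_of_sq hE).exists_le_sylow
  have hnc : ¬ IsCyclic (T : Subgroup G) := by
    intro hc
    haveI := hc
    haveI : IsCyclic (Cz z) := isCyclic_of_injective _ (Subgroup.inclusion_injective hT)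
    obtain ⟨g, hg⟩ := IsCyclic.exists_ofOrder_eq_natCard (α := Cz z)
    have h2 : orderOf g ∣ 2 := orderOf_dvd_of_pow_eq_one (Subtype.ext (by rw [pow_two]; exact hE g g.2))
    have := Nat.le_of_dvd two_pos h2
    omega
  have hnn : ¬ (T : Subgroup G).Normal := by
    intro hn'
    obtain ⟨a, ha, ha1⟩ : ∃ a ∈ M, a ≠ 1 := by
      by_contra hall'
      push Not at hall'
      exact h.ne ((Subgroup.eq_bot_iff_forall _).2 hall')
    have hzT : z ∈ (T : Subgroup G) := hT (mem_Cz.2 rfl)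
    have hmem : a * a ∈ (T : Subgroup G) := by
      have := mul_mem (hn'.conj_mem z hzT a) hzT
      rwa [show a * z * a⁻¹ * z = a * (z * a⁻¹ * z) by group, h.inv_z (inv_mem ha), inv_inv] at this
    obtain ⟨j, hj⟩ := T.2 ⟨_, hmem⟩
    exact ha1 (h.sq_eq_one ha (eq_one_of_odd (h.odd_of_mem (mul_mem ha ha)) (congrArg Subtype.val hj)))
  have hcent : ∀ t : G, orderOf t = 2 → IsMulCommutative (Subgroup.centralizer ({t} : Set G)) ∧
      ∀ c ∈ Subgroup.centralizer ({t} : Set G), c ^ 2 = 1 := by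
    intro t ht
    obtain ⟨g, rfl⟩ := isConj_iff.1 (hall t ht)
    have hsq : ∀ c ∈ Subgroup.centralizer ({g * z * g⁻¹} : Set G), c * c = 1 := by
      intro c hc
      rw [mem_Cz] at hc
      have e := hE (g⁻¹ * c * g) (mem_Cz.2 (by
        calc g⁻¹ * c * g * z = g⁻¹ * (c * (g * z * g⁻¹)) * g := by group
          _ = g⁻¹ * (g * z * g⁻¹ * c) * g := by rw [hc]
          _ = z * (g⁻¹ * c * g) := by group))
      calc c * c = g * ((g⁻¹ * c * g) * (g⁻¹ * c * g)) * g⁻¹ := by group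
        _ = 1 := by rw [e, mul_one, mul_inv_cancel]
    refine ⟨⟨⟨fun a b => Subtype.ext ?_⟩⟩, fun c hc => by rw [pow_two]; exact hsq c hc⟩
    have e := hsq _ (mul_mem a.2 b.2)
    show (a : G) * b = b * a
    rw [← sq_of_conj_inv e, mul_inv_rev, sq_of_conj_inv (hsq _ a.2), sq_of_conj_inv (hsq _ b.2)]
  obtain ⟨F, _, _, hF, ⟨e⟩⟩ := S1230.key (⟨hnc, hnn, hcent⟩ : ElemCase T)
  have hG := h.card_group
  rw [h.card_N, h.card_C hC hq hE, hn, hm] at hG
  have hGc : Nat.card G = 2 ^ (n + 1) * ((2 * 2 ^ n + 1) * (2 * 2 ^ n - 1)) := by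
    obtain ⟨k, hk⟩ : ∃ k, 2 * 2 ^ n = k + 1 := ⟨2 * 2 ^ n - 1, by have := Nat.one_le_two_pow (n := n); omega⟩
    rw [pow_succ', hk, Nat.add_sub_cancel]
    rw [hk] at hG
    have e2 : (k + 1) * ((k + 1 + 1) * k) + (k + 1 + 1) * (k + 1 + 1) * 2 =
        (k + 1 + 1) * 2 + (k + 1 + 1) * (k + 1 + 1) * (k + 1) := by ring
    omega
  have hT' : Nat.card (T : Subgroup G) = 2 ^ (n + 1) := by
    have hodd : ¬ 2 ∣ (2 * 2 ^ n + 1) * (2 * 2 ^ n - 1) := by
      rw [← even_iff_two_dvd, Nat.not_even_iff_odd]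
      have := Nat.one_le_two_pow (n := n)
      exact (odd_two_mul_add_one _).mul ⟨2 ^ n - 1, by omega⟩
    rw [T.card_eq_multiplicity]
    congr 1
    rw [hGc, Nat.factorization_mul (by positivity) (fun e' => hodd (by rw [e']; exact dvd_zero 2)),
      Finsupp.add_apply, Nat.prime_two.factorization_pow, Finsupp.single_eq_same,
      Nat.factorization_eq_zero_of_not_dvd hodd, add_zero]
  haveI : CharP F 2 := charP_of_card_eq_prime_pow (f := n + 1) (by rw [hF, hT'])
  refine ⟨F, inferInstance, inferInstance, n + 1, by omega, by rw [hF, hT'], ?_, by rw [hm, pow_succ'],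
    ⟨e⟩⟩
  -- `M` is cyclic
  let ι : ↥M →* Matrix.SpecialLinearGroup (Fin 2) F := (e.trans AbelCent.SL.pslEquiv).toMonoidHom.comp M.subtype
  have hι : Function.Injective ι := (e.trans AbelCent.SL.pslEquiv).injective.comp Subtype.val_injective
  obtain ⟨a, ha, ha1⟩ : ∃ a ∈ M, a ≠ 1 := by
    by_contra hall'
    push Not at hall'
    exact h.ne ((Subgroup.eq_bot_iff_forall _).2 hall')
  set x := ι ⟨a, ha⟩ with hx
  have hx1 : x ≠ 1 := fun e' => ha1 (congrArg Subtype.val (hι (e'.trans (map_one ι).symm)))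
  have hxx : x * x ≠ 1 := fun e' => ha1 (h.sq_eq_one ha
    (congrArg Subtype.val (hι ((map_mul ι ⟨a, ha⟩ ⟨a, ha⟩).trans (e'.trans (map_one ι).symm)))))
  have hsc : ¬ PStable.IsSc x := by
    rintro ⟨c, hc⟩
    exact hx1 (AbelCent.SL.eq_one_of_scalar x (hc ▸ TwoByTwo.isScalar_smul_one c))
  have htr : Matrix.trace (x : Matrix (Fin 2) (Fin 2) F) ^ 2 ≠ 4 := by
    rw [show (4 : F) = 2 * 2 by norm_num, (CharTwo.two_eq_zero : (2 : F) = 0), mul_zero, Ne,
      pow_eq_zero_iff two_ne_zero]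
    exact fun e' => hxx (AbelCent.SL.mul_self_of_trace e')
  haveI := (Dickson.cent_cyclic (H := (⊤ : Subgroup (Matrix.SpecialLinearGroup (Fin 2) F))) hsc htr).1
  refine isCyclic_of_injective (ι.codRestrict (PStable.cent ⊤ x) fun b =>
    PStable.mem_cent.2 ⟨trivial, ?_⟩) fun p q e' => hι (congrArg Subtype.val e')
  rw [hx, ← map_mul, ← map_mul]
  exact congrArg ι (Subtype.ext (h.comm b.2 ha))

/-- Second possibility: the affine group. -/
theorem affine {n : ℕ} (hn2 : 2 ≤ n) (hn : Nat.card (Cz z) = 2 * 2 ^ n) (hm : Nat.card M = 2 ^ n + 1)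
    (hs : h.s = 2 ^ n) :
    ∃ (d : ℕ) (E : Subgroup G), 1 ≤ d ∧ E.Normal ∧ Cfsg.IsElementaryAbelian 2 E ∧ Nat.card E = 2 ^ (2 * d) ∧
      E ⊓ Subgroup.normalizer (M : Set G) = ⊥ ∧ E ⊔ Subgroup.normalizer (M : Set G) = ⊤ ∧
      Nonempty (↥(Subgroup.normalizer (M : Set G)) ≃* DihedralGroup (2 ^ d + 1)) := by
  classical
  haveI : Fact (Nat.Prime 2) := ⟨Nat.prime_two⟩
  haveI := Fintype.ofFinite G
  have h1n : 1 ≤ 2 ^ n := Nat.one_le_two_pow
  have hG : Nat.card G = 2 ^ (2 * n + 1) * (2 ^ n + 1) := by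
    have e := h.count hC hq hE
    rw [hn, hm, hs] at e
    rw [← e, pow_succ', two_mul n, pow_add]
    ring
  -- `G` has a normal `2`-subgroup containing the involutions not conjugate to `z`
  obtain ⟨T⟩ : Nonempty (Sylow 2 G) := inferInstance
  set E := (T : Subgroup G).normalCore with hEdef
  haveI : E.Normal := Subgroup.normalCore_normal _
  have hE2 : IsPGroup 2 E := T.2.to_le (Subgroup.normalCore_le _)
  have hU : ∀ u : G, orderOf u = 2 → ¬ IsConj z u → u ∈ E := by
    intro u hu huz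
    have hp : ∀ g : G, IsPGroup 2 ↥(Subgroup.zpowers u ⊔ (Subgroup.zpowers u).map (MulAut.conj g).toMonoidHom) := by
      intro g
      have hmap : (Subgroup.zpowers u).map (MulAut.conj g).toMonoidHom = Subgroup.zpowers (g * u * g⁻¹) := by
        rw [MonoidHom.map_zpowers]; rfl
      rw [hmap]
      have hu' : orderOf (g * u * g⁻¹) = 2 := (order_conj g u).trans hu
      have hy0 : orderOf (u * (g * u * g⁻¹)) ≠ 0 := (orderOf_pos _).ne'
      obtain ⟨i, hi⟩ : ∃ i, orderOf (u * (g * u * g⁻¹)) = 2 ^ i := by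
        refine ⟨_, (Nat.eq_prime_pow_of_unique_prime_dvd hy0 fun {p} hpp hpd => ?_)⟩
        by_contra hp2
        haveI : Fact p.Prime := ⟨hpp⟩
        have hw : orderOf ((u * (g * u * g⁻¹)) ^ (orderOf (u * (g * u * g⁻¹)) / p)) = p :=
          orderOf_pow_orderOf_div hy0 hpd
        obtain ⟨w, hwdef⟩ : ∃ w, w = (u * (g * u * g⁻¹)) ^ (orderOf (u * (g * u * g⁻¹)) / p) := ⟨_, rfl⟩
        rw [← hwdef] at hw
        have hwu : u * w * u⁻¹ = w⁻¹ := by
          rw [hwdef, ← _root_.conj_pow, ← inv_pow]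
          congr 1
          simp only [mul_inv_rev, inv_inv, inv_self hu]
          rw [← mul_assoc u u, mul_self hu, one_mul]
          group
        -- `w` is conjugate into `M`
        have hpM : ¬ p ∣ 2 ^ (2 * n + 1) := fun hd =>
          hp2 ((Nat.prime_dvd_prime_iff_eq hpp Nat.prime_two).1 (hpp.dvd_of_dvd_pow hd))
        obtain ⟨P⟩ : Nonempty (Sylow p M) := inferInstance
        let P' : Subgroup G := (P : Subgroup M).map M.subtype
        have hP' : IsPGroup p P' := P.2.map _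
        have hPi : ¬ p ∣ P'.index := by
          rw [Subgroup.index_map_subtype]
          refine fun hd => ((Nat.Prime.dvd_mul hpp).1 hd).elim P.not_dvd_index fun hd' => hpM ?_
          have e1 := M.card_mul_index
          rw [hG, hm, mul_comm] at e1
          rw [← Nat.eq_of_mul_eq_mul_right (by omega) e1]
          exact hd'
        obtain ⟨Q, hQ⟩ := (IsPGroup.of_card (p := p) (n := 1) (G := Subgroup.zpowers w)
          (by rw [Nat.card_zpowers, hw, pow_one])).exists_le_sylow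
        obtain ⟨c, hc⟩ := MulAction.exists_smul_eq G Q (hP'.toSylow hPi)
        have hcw : c * w * c⁻¹ ∈ M := by
          have h1 : c * w * c⁻¹ ∈ ((c • Q : Sylow p G) : Subgroup G) := by
            rw [Sylow.coe_subgroup_smul]
            exact ⟨w, hQ (Subgroup.mem_zpowers w), rfl⟩
          rw [hc] at h1
          obtain ⟨x, -, hx⟩ := h1
          exact hx ▸ x.2
        have hne : c * w * c⁻¹ ≠ 1 := fun e => hpp.one_lt.ne'
          (by rw [← hw, conj_eq_one_iff.1 e, orderOf_one])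
        have hN : c * u * c⁻¹ ∈ h.N := by
          by_contra hcu
          refine hne (h.ti' hcu hcw ?_)
          rw [show c * u * c⁻¹ * (c * w * c⁻¹) * (c * u * c⁻¹)⁻¹ = c * (u * w * u⁻¹) * c⁻¹ by group, hwu]
          rw [show c * w⁻¹ * c⁻¹ = (c * w * c⁻¹)⁻¹ by group]
          exact inv_mem hcw
        obtain ⟨a, -, e⟩ := h.invol_N hN ((order_conj c u).trans hu)
        exact huz (isConj_iff.2 ⟨c⁻¹ * a, by
          rw [show c⁻¹ * a * z * (c⁻¹ * a)⁻¹ = c⁻¹ * (a * z * a⁻¹) * c by group, ← e]; group⟩)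
      exact isPGroup_closure_pair hu hu' hi
    obtain ⟨N, hN, hN2, hNu⟩ := BaerSuzuki.baerSuzuki (Subgroup.zpowers u)
      (IsPGroup.of_card (p := 2) (n := 1) (by rw [Nat.card_zpowers, hu, pow_one])) hp
    haveI := hN
    obtain ⟨Q, hQ⟩ := hN2.exists_le_sylow
    obtain ⟨c, hc⟩ := MulAction.exists_smul_eq G Q T
    have hNT : N ≤ (T : Subgroup G) := by
      intro x hx
      rw [← hc, Sylow.coe_subgroup_smul]
      exact ⟨c⁻¹ * x * c, hQ (by
        have := hN.conj_mem x hx c⁻¹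
        rwa [inv_inv] at this), by
        show c * (c⁻¹ * x * c) * c⁻¹ = x
        group⟩
    exact Subgroup.normal_le_normalCore.2 hNT (hNu (Subgroup.mem_zpowers u))
  obtain ⟨a₀, ha₀, ha₀1⟩ : ∃ a ∈ M, a ≠ 1 := by
    by_contra hall'
    push Not at hall'
    exact h.ne ((Subgroup.eq_bot_iff_forall _).2 hall')
  have hzE : z ∉ E := by
    intro hz
    have hmem : a₀ * a₀ ∈ E := by
      have := mul_mem ((inferInstance : E.Normal).conj_mem z hz a₀) hz
      rwa [show a₀ * z * a₀⁻¹ * z = a₀ * (z * a₀⁻¹ * z) by group, h.inv_z (inv_mem ha₀), inv_inv] at this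
    obtain ⟨j, hj⟩ := hE2 ⟨_, hmem⟩
    exact ha₀1 (h.sq_eq_one ha₀ (eq_one_of_odd (h.odd_of_mem (mul_mem ha₀ ha₀)) (congrArg Subtype.val hj)))
  have hEN : E ⊓ h.N = ⊥ := by
    rw [Subgroup.eq_bot_iff_forall]
    rintro x ⟨hxE, hxN⟩
    obtain ⟨a, ha, c, hc, rfl⟩ := h.split hxN
    rcases hC c hc with hc1 | hc1 <;> rw [hc1] at hxE ⊢
    · rw [mul_one] at hxE ⊢
      obtain ⟨j, hj⟩ := hE2 ⟨a, hxE⟩
      exact eq_one_of_odd (h.odd_of_mem ha) (congrArg Subtype.val hj)
    · exfalso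
      obtain ⟨e, he, hee⟩ := h.exists_sqrt ha
      refine hzE ?_
      have := (inferInstance : E.Normal).conj_mem _ hxE e⁻¹
      rw [inv_inv, ← hee, show e⁻¹ * (e * e * z) * e = e * z * e by group] at this
      have e2 : e * z * e = z := by
        calc e * z * e = e * (z * e * z) * z := by
              rw [show e * (z * e * z) * z = e * z * e * (z * z) by group, h.z_sq, mul_one]
          _ = z := by rw [h.inv_z he, mul_inv_cancel, one_mul]
      rwa [e2] at this
  have hEle : Nat.card E * Nat.card h.N ≤ Nat.card G := by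
    rw [← Nat.card_prod]
    refine Nat.card_le_card_of_injective (fun p : ↥E × ↥h.N => (p.1 : G) * (p.2 : G)) ?_
    rintro ⟨x, y⟩ ⟨x', y'⟩ e
    have e' : (x : G) * y = x' * y' := e
    have e2 : (x' : G)⁻¹ * x = (y' : G) * (y : G)⁻¹ := by
      rw [eq_mul_inv_iff_mul_eq, mul_assoc, e', inv_mul_cancel_left]
    have hmem : (x' : G)⁻¹ * x ∈ E ⊓ h.N :=
      Subgroup.mem_inf.2 ⟨mul_mem (inv_mem x'.2) x.2, e2 ▸ mul_mem y'.2 (inv_mem y.2)⟩
    rw [hEN, Subgroup.mem_bot] at hmem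
    have hx : (x' : G) = x := inv_mul_eq_one.1 hmem
    exact Prod.ext (Subtype.ext hx.symm) (Subtype.ext (mul_left_cancel (hx ▸ e' : (x : G) * y = x * y')))
  have hN2 : Nat.card h.N = 2 * (2 ^ n + 1) := by rw [h.card_N, h.card_C hC hq hE, hm, mul_comm]
  have hEup : Nat.card E ≤ 2 ^ (2 * n) := by
    rw [hN2, hG, pow_succ, mul_assoc] at hEle
    exact Nat.le_of_mul_le_mul_right hEle (by omega)
  let U := {v : G // (v * z = z * v ∧ v ≠ 1) ∧ ¬ IsConj z v}
  have hUc : Nat.card U + 1 + h.s = Nat.card (Cz z) := by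
    have e : Nat.card (Cz z) = Nat.card (Option ({v : G // (v * z = z * v) ∧ IsConj z v} ⊕ U)) := by
      refine Nat.card_congr
        { toFun := fun x => if h1 : (x : G) = 1 then none else if h2 : IsConj z (x : G) then
            some (Sum.inl ⟨x, mem_Cz.1 x.2, h2⟩) else some (Sum.inr ⟨x, ⟨mem_Cz.1 x.2, h1⟩, h2⟩)
          invFun := fun o => o.elim 1 fun w => w.elim (fun w => ⟨w.1, mem_Cz.2 w.2.1⟩)
            fun w => ⟨w.1, mem_Cz.2 w.2.1.1⟩
          left_inv := fun x => ?_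
          right_inv := fun o => ?_ }
      · by_cases h1 : (x : G) = 1
        · simp [h1]; exact Subtype.ext h1.symm
        · by_cases h2 : IsConj z (x : G) <;> simp [h1, h2, -isConj_iff]
      · rcases o with _ | (w | w)
        · simp
        · have h1 : w.1 ≠ 1 := fun e' => ne_one h.hz (isConj_one_left.1 (e' ▸ w.2.2))
          simp [h1, w.2.2, -isConj_iff]
        · simp [w.2.1.2, w.2.2, -isConj_iff]
    rw [e, Finite.card_option, Nat.card_sum]
    unfold s
    omega
  have hUord : ∀ v : U, orderOf v.1 = 2 := fun v =>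
    order_two_of_sq (hE v.1 (mem_Cz.2 v.2.1.1)) v.2.1.2
  let f : Option (↥M × U) → E := fun o => o.elim 1 fun p =>
    ⟨(p.1 : G) * p.2.1 * (p.1 : G)⁻¹, (inferInstance : E.Normal).conj_mem _ (hU _ (hUord p.2) p.2.2.2) _⟩
  have hfinj : Function.Injective f := by
    rintro (_ | p) (_ | p') e
    · rfl
    · exact absurd (conj_eq_one_iff.1 (congrArg Subtype.val e.symm)) p'.2.2.1.2
    · exact absurd (conj_eq_one_iff.1 (congrArg Subtype.val e)) p.2.2.1.2
    · obtain ⟨e1, e2⟩ := h.block_inj hC hq hE p.1.2 p'.1.2 p.2.2.1.1 p.2.2.1.2 p'.2.2.1.1 p'.2.2.1.2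
        (congrArg Subtype.val e)
      exact congrArg some (Prod.ext (Subtype.ext e1) (Subtype.ext e2))
  have hUn : Nat.card (Option (↥M × U)) = 2 ^ (2 * n) := by
    rw [Finite.card_option, Nat.card_prod, hm]
    rw [hn, hs] at hUc
    obtain ⟨k, hk⟩ : ∃ k, 2 ^ n = k + 1 := ⟨2 ^ n - 1, by omega⟩
    rw [show Nat.card U = k by omega, two_mul, pow_add, hk]
    ring
  have hEc : Nat.card E = 2 ^ (2 * n) :=
    le_antisymm hEup (hUn ▸ Nat.card_le_card_of_injective f hfinj)
  have hfs : Function.Surjective f :=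
    ((Nat.bijective_iff_injective_and_card f).2 ⟨hfinj, hUn.trans hEc.symm⟩).2
  have hEsq : ∀ x ∈ E, x ^ 2 = 1 := by
    intro x hx
    obtain ⟨o, ho⟩ := hfs ⟨x, hx⟩
    rcases o with _ | p
    · have e : (1 : G) = x := congrArg Subtype.val ho
      rw [← e, one_pow]
    · have e : (p.1 : G) * p.2.1 * (p.1 : G)⁻¹ = x := congrArg Subtype.val ho
      rw [← e, _root_.conj_pow,
        show p.2.1 ^ 2 = 1 by rw [← hUord p.2]; exact pow_orderOf_eq_one _, mul_one, mul_inv_cancel]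
  have hEcomm : IsMulCommutative E := ⟨⟨fun a b => Subtype.ext (by
    have hs' : ∀ x ∈ E, x⁻¹ = x := fun x hx => sq_of_conj_inv (by rw [← pow_two]; exact hEsq x hx)
    show (a : G) * b = b * a
    rw [← hs' _ (mul_mem a.2 b.2), mul_inv_rev, hs' _ a.2, hs' _ b.2])⟩⟩
  haveI : IsMulCommutative M := ⟨⟨fun a b => Subtype.ext (h.comm a.2 b.2)⟩⟩
  have hMc : IsCyclic M := by
    by_contra hnc
    have hcop : (Nat.card M).Coprime (Nat.card E) := by
      rw [hEc]; exact (Nat.coprime_two_right.2 h.odd_card).pow_right _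
    have hgen := CoprimeAct.generated_by_centralizers (A := M) (K := E) hnc
      (by rw [Subgroup.normalizer_eq_top_iff.2 inferInstance]; exact le_top) hcop
    have hEne : E ≠ ⊥ := fun e => by
      rw [e, Subgroup.card_bot] at hEc
      have : 2 ^ 2 ≤ 2 ^ (2 * n) := Nat.pow_le_pow_right two_pos (by omega)
      omega
    refine hEne (hgen ▸ (iSup₂_le fun a ha => ?_) |> fun hle => eq_bot_iff.2 hle)
    rintro x ⟨hxE, hxa⟩
    rw [Subgroup.mem_bot]
    by_contra hx1
    exact ha.2 (h.no_comm ha.1 (order_two_of_sq (by rw [← pow_two]; exact hEsq x hxE) hx1) (mem_Cz.1 hxa))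
  obtain ⟨a, hgen⟩ := hMc.exists_generator
  have hMz : Subgroup.zpowers (a : G) = M := le_antisymm (Subgroup.zpowers_le.2 a.2) fun x hx => by
    obtain ⟨i, hi⟩ := hgen ⟨x, hx⟩
    exact ⟨i, congrArg Subtype.val hi⟩
  have hNcl : h.N = Subgroup.closure ({(a : G), z} : Set G) := by
    refine le_antisymm (fun x hx => ?_) ((Subgroup.closure_le _).2 ?_)
    · obtain ⟨b, hb, c, hc, rfl⟩ := h.split hx
      refine mul_mem ?_ ?_
      · rw [← hMz] at hb
        exact Subgroup.zpowers_le.2 (Subgroup.subset_closure (Set.mem_insert _ _)) hb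
      · rcases hC c hc with hc1 | hc1 <;> rw [hc1]
        · exact one_mem _
        · exact Subgroup.subset_closure (Or.inr rfl)
    · rintro x (rfl | rfl)
      · exact h.M_le_N a.2
      · exact h.hzN
  refine ⟨n, E, by omega, inferInstance, ⟨hEcomm, hEsq⟩, hEc, hEN, ?_, ?_⟩
  · refine Subgroup.eq_top_of_le_card _ ?_
    have hprod : Nat.card (↥E × ↥h.N) ≤ Nat.card ↥(E ⊔ h.N) := by
      refine Nat.card_le_card_of_injective (fun p : ↥E × ↥h.N => (⟨(p.1 : G) * (p.2 : G),
        mul_mem (Subgroup.mem_sup_left p.1.2) (Subgroup.mem_sup_right p.2.2)⟩ : ↥(E ⊔ h.N))) ?_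
      rintro ⟨x, y⟩ ⟨x', y'⟩ e
      have e' : (x : G) * y = x' * y' := congrArg Subtype.val e
      have e2 : (x' : G)⁻¹ * x = (y' : G) * (y : G)⁻¹ := by
        rw [eq_mul_inv_iff_mul_eq, mul_assoc, e', inv_mul_cancel_left]
      have hmem : (x' : G)⁻¹ * x ∈ E ⊓ h.N :=
        Subgroup.mem_inf.2 ⟨mul_mem (inv_mem x'.2) x.2, e2 ▸ mul_mem y'.2 (inv_mem y.2)⟩
      rw [hEN, Subgroup.mem_bot] at hmem
      have hx : (x' : G) = x := inv_mul_eq_one.1 hmem
      exact Prod.ext (Subtype.ext hx.symm) (Subtype.ext (mul_left_cancel (hx ▸ e' : (x : G) * y = x * y')))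
    rw [Nat.card_prod, hEc, hN2] at hprod
    rw [hG, pow_succ, mul_assoc]
    exact hprod
  · refine TwoLift.dihedral_equiv ?_ h.z_sq ?_ ?_ hNcl
    · rw [← Nat.card_zpowers, hMz, hm]
    · rw [h.z_inv]; exact h.inv_z a.2
    · rw [hMz]
      exact fun hzM => ne_one h.hz (h.M_inter_Cz hzM rfl)

end Hyp

end Cfsg.Agent.TIInv
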