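import Cfsg.Agent.Lib.Involutions.StronglyEmbedded
import Cfsg.Agent.Lib.Involutions.Dihedral
import Mathlib.GroupTheory.FixedPointFree

/-!
A TI subgroup `M` whose non-trivial elements have centralizers of odd order, with more involutions
than cosets of `M` (Bender).
-/

set_option autoImplicit false
set_option linter.style.haveILetI false
set_option linter.unusedSectionVars false

namespace Cfsg.Agent.TIInv

open Cfsg.Agent.Invol

universe u

variable {G : Type u} [Group G] [Finite G]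

/-- The centralizer of an element. -/
abbrev Cz (x : G) : Subgroup G := Subgroup.centralizer ({x} : Set G)

theorem mem_Cz {x g : G} : g ∈ Cz x ↔ g * x = x * g := Subgroup.mem_centralizer_singleton_iff

theorem eq_one_of_odd {x : G} (ho : Odd (orderOf x)) {j : ℕ} (hj : x ^ 2 ^ j = 1) : x = 1 :=
  orderOf_eq_one_iff.1 (Nat.eq_one_of_dvd_coprimes ((Nat.coprime_two_right.2 ho).pow_right j)
    dvd_rfl (orderOf_dvd_of_pow_eq_one hj))

theorem sq_of_conj_inv {x : G} (hx : x * x = 1) : x⁻¹ = x := inv_eq_of_mul_eq_one_right hx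

/-- The hypotheses. -/
structure Hyp (M : Subgroup G) (z : G) : Prop where
  ne : M ≠ ⊥
  ti : ∀ g : G, M ⊓ M.map (MulAut.conj g).toMonoidHom ≠ ⊥ → M.map (MulAut.conj g).toMonoidHom = M
  hz : orderOf z = 2
  hzN : z ∈ Subgroup.normalizer (M : Set G)
  fac : M ⊔ (Subgroup.normalizer (M : Set G) ⊓ Subgroup.centralizer ({z} : Set G)) =
    Subgroup.normalizer (M : Set G)
  odd : ∀ x ∈ M, x ≠ 1 → Odd (Nat.card ↥(Subgroup.centralizer ({x} : Set G)))
  nonnormal : ¬ M.Normal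
  big : M.index < Nat.card {g : G // orderOf g = 2}

namespace Hyp

variable {M : Subgroup G} {z : G} (h : Hyp M z)
include h

/-- The normalizer of `M`. -/
abbrev N (_h : Hyp M z) : Subgroup G := Subgroup.normalizer (M : Set G)

/-- The centralizer of `z` in the normalizer. -/
abbrev C (_h : Hyp M z) : Subgroup G := Subgroup.normalizer (M : Set G) ⊓ Subgroup.centralizer ({z} : Set G)

theorem mem_C {c : G} : c ∈ h.C ↔ c ∈ h.N ∧ c * z = z * c :=
  Subgroup.mem_inf.trans (and_congr_right fun _ => mem_Cz)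

theorem M_le_N : M ≤ h.N := Subgroup.le_normalizer

theorem conj_mem {g a : G} (hg : g ∈ h.N) (ha : a ∈ M) : g * a * g⁻¹ ∈ M :=
  (Subgroup.mem_normalizer_iff.1 hg a).1 ha

theorem z_mem_C : z ∈ h.C := h.mem_C.2 ⟨h.hzN, rfl⟩

theorem ti' {g a : G} (hg : g ∉ h.N) (ha : a ∈ M) (hga : g * a * g⁻¹ ∈ M) : a = 1 := by
  by_contra h1
  refine hg (Subgroup.mem_normalizer_iff_map_conj_eq.2 (h.ti g fun e => h1 ?_))
  have hmem : g * a * g⁻¹ ∈ M ⊓ M.map (MulAut.conj g).toMonoidHom := ⟨hga, ⟨a, ha, rfl⟩⟩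
  rw [e, Subgroup.mem_bot] at hmem
  exact conj_eq_one_iff.1 hmem

theorem z_sq : z * z = 1 := mul_self h.hz

theorem z_inv : z⁻¹ = z := inv_self h.hz

theorem no_comm {a t : G} (ha : a ∈ M) (ht : orderOf t = 2) (hc : t * a = a * t) : a = 1 := by
  by_contra h1
  exact Nat.not_even_iff_odd.2 (h.odd a ha h1) (even_of_invol_mem ht (mem_Cz.2 hc))

theorem inv_z {a : G} (ha : a ∈ M) : z * a * z = a⁻¹ := by
  have hmem : ∀ x : G, x ∈ M → z * x * z ∈ M := fun x hx => by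
    have := h.conj_mem h.hzN hx
    rwa [h.z_inv] at this
  let ψ : M →* M := MonoidHom.mk' (fun x => ⟨z * x * z, hmem x x.2⟩) fun x y => Subtype.ext (by
    show z * ((x : G) * y) * z = z * x * z * (z * y * z)
    rw [show z * (x : G) * z * (z * y * z) = z * x * (z * z) * y * z by group, h.z_sq]; group)
  have hfix : MonoidHom.FixedPointFree ψ := fun x hx => by
    have e : z * (x : G) * z = x := congrArg Subtype.val hx
    refine Subtype.ext (h.no_comm x.2 h.hz ?_)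
    calc z * (x : G) = z * x * z * z := by rw [mul_assoc _ z z, h.z_sq, mul_one]
      _ = x * z := by rw [e]
  have hinvol : Function.Involutive ψ := fun x => Subtype.ext (by
    show z * (z * (x : G) * z) * z = x
    rw [show z * (z * (x : G) * z) * z = (z * z) * x * (z * z) by group, h.z_sq, one_mul, mul_one])
  exact congrArg Subtype.val (congrFun (hfix.coe_eq_inv_of_involutive hinvol) ⟨a, ha⟩)

theorem comm {a b : G} (ha : a ∈ M) (hb : b ∈ M) : a * b = b * a := by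
  refine inv_injective ?_
  rw [mul_inv_rev, mul_inv_rev, ← h.inv_z ha, ← h.inv_z hb]
  have e := h.inv_z (mul_mem hb ha)
  rw [mul_inv_rev, ← h.inv_z ha, ← h.inv_z hb] at e
  rw [← e, show z * b * z * (z * a * z) = z * b * (z * z) * a * z by group, h.z_sq]
  group

theorem odd_card : Odd (Nat.card M) := by
  rw [← Nat.not_even_iff_odd]
  intro he
  obtain ⟨a, ha, hao⟩ := exists_invol he
  refine ne_one hao (h.no_comm ha h.hz ?_)
  have e := h.inv_z ha
  rw [inv_self hao] at e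
  calc z * a = z * a * z * z := by rw [mul_assoc _ z z, h.z_sq, mul_one]
    _ = a * z := by rw [e]

theorem odd_of_mem {a : G} (ha : a ∈ M) : Odd (orderOf a) :=
  h.odd_card.of_dvd_nat (Subgroup.orderOf_dvd_natCard M ha)

theorem exists_sqrt {a : G} (ha : a ∈ M) : ∃ e ∈ M, e * e = a := by
  obtain ⟨i, hi⟩ := h.odd_of_mem ha
  refine ⟨a ^ (i + 1), pow_mem ha _, ?_⟩
  rw [← pow_add, show i + 1 + (i + 1) = 2 * i + 1 + 1 by ring, pow_succ, ← hi, pow_orderOf_eq_one, one_mul]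

theorem sq_eq_one {a : G} (ha : a ∈ M) (h2 : a * a = 1) : a = 1 :=
  eq_one_of_odd (h.odd_of_mem ha) (j := 1) (by rw [pow_one, pow_two, h2])

theorem M_inter_Cz {a : G} (ha : a ∈ M) (hc : a * z = z * a) : a = 1 := h.no_comm ha h.hz hc.symm

theorem split {g : G} (hg : g ∈ h.N) : ∃ a ∈ M, ∃ c ∈ h.C, g = a * c := by
  have hg' : g ∈ (M ⊔ h.C : Subgroup G) := by rw [h.fac]; exact hg
  rw [← SetLike.mem_coe, Subgroup.coe_mul_of_right_le_normalizer_left M h.C inf_le_left] at hg'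
  obtain ⟨a, ha, c, hc, rfl⟩ := Set.mem_mul.1 hg'
  exact ⟨a, ha, c, hc, rfl⟩

theorem split_unique {a a' c c' : G} (ha : a ∈ M) (ha' : a' ∈ M) (hc : c ∈ h.C) (hc' : c' ∈ h.C)
    (e : a * c = a' * c') : a = a' ∧ c = c' := by
  have e' : a'⁻¹ * a = c' * c⁻¹ := by rw [eq_mul_inv_iff_mul_eq, mul_assoc, e, inv_mul_cancel_left]
  have h1 : a'⁻¹ * a = 1 :=
    h.M_inter_Cz (mul_mem (inv_mem ha') ha) (by rw [e']; exact (h.mem_C.1 (mul_mem hc' (inv_mem hc))).2)
  have ha1 : a' = a := inv_mul_eq_one.1 h1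
  subst ha1
  exact ⟨rfl, mul_left_cancel e⟩

theorem card_N : Nat.card h.N = Nat.card M * Nat.card h.C := by
  rw [← Nat.card_prod]
  refine (Nat.card_eq_of_bijective (fun p : ↥M × ↥h.C =>
    (⟨(p.1 : G) * (p.2 : G), mul_mem (h.M_le_N p.1.2) (h.mem_C.1 p.2.2).1⟩ : h.N)) ⟨?_, ?_⟩).symm
  · intro p q e
    obtain ⟨e1, e2⟩ := h.split_unique p.1.2 q.1.2 p.2.2 q.2.2 (congrArg Subtype.val e)
    exact Prod.ext (Subtype.ext e1) (Subtype.ext e2)
  · rintro ⟨g, hg⟩
    obtain ⟨a, ha, c, hc, rfl⟩ := h.split hg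
    exact ⟨(⟨a, ha⟩, ⟨c, hc⟩), rfl⟩

/-- `z` is the only involution of `C`. -/
theorem invol_C {c : G} (hc : c ∈ h.C) (hco : orderOf c = 2) : c = z := by
  obtain ⟨hcN, hcz⟩ := h.mem_C.1 hc
  by_contra hne
  have hcc := mul_self hco
  have hmem : ∀ x : G, x ∈ M → c * x * c ∈ M := fun x hx => by
    have := h.conj_mem hcN hx
    rwa [inv_self hco] at this
  have hinv : ∀ a ∈ M, c * a * c = a⁻¹ := by
    intro a ha
    let ψ : M →* M := MonoidHom.mk' (fun x => ⟨c * x * c, hmem x x.2⟩) fun x y => Subtype.ext (by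
      show c * ((x : G) * y) * c = c * x * c * (c * y * c)
      rw [show c * (x : G) * c * (c * y * c) = c * x * (c * c) * y * c by group, hcc]; group)
    have hfix : MonoidHom.FixedPointFree ψ := fun x hx => by
      have e : c * (x : G) * c = x := congrArg Subtype.val hx
      refine Subtype.ext (h.no_comm x.2 hco ?_)
      calc c * (x : G) = c * x * c * c := by rw [mul_assoc _ c c, hcc, mul_one]
        _ = x * c := by rw [e]
    have hinvol : Function.Involutive ψ := fun x => Subtype.ext (by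
      show c * (c * (x : G) * c) * c = x
      rw [show c * (c * (x : G) * c) * c = (c * c) * x * (c * c) by group, hcc, one_mul, mul_one])
    exact congrArg Subtype.val (congrFun (hfix.coe_eq_inv_of_involutive hinvol) ⟨a, ha⟩)
  have hw : orderOf (c * z) = 2 := by
    refine order_two_of_sq ?_ fun e => hne ((mul_eq_one_iff_eq_inv.1 e).trans h.z_inv)
    calc c * z * (c * z) = c * (z * c) * z := by group
      _ = c * (c * z) * z := by rw [hcz]
      _ = (c * c) * (z * z) := by group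
      _ = 1 := by rw [hcc, h.z_sq, one_mul]
  obtain ⟨a, ha, ha1⟩ : ∃ a ∈ M, a ≠ 1 := by
    by_contra hall
    push Not at hall
    exact h.ne ((Subgroup.eq_bot_iff_forall _).2 hall)
  refine ha1 (h.no_comm ha hw ?_)
  have hinv' := hinv _ (inv_mem ha)
  rw [inv_inv] at hinv'
  calc c * z * a = c * (z * a * z) * z := by
        rw [show c * (z * a * z) * z = c * z * a * (z * z) by group, h.z_sq, mul_one]
    _ = (c * a⁻¹ * c) * (c * z) := by
        rw [h.inv_z ha, show c * a⁻¹ * c * (c * z) = c * a⁻¹ * (c * c) * z by group, hcc, mul_one]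
    _ = a * (c * z) := by rw [hinv']

/-- The involutions of `N`. -/
theorem invol_N {t : G} (ht : t ∈ h.N) (hto : orderOf t = 2) : ∃ a ∈ M, t = a * z * a⁻¹ := by
  obtain ⟨a, ha, c, hc, rfl⟩ := h.split ht
  obtain ⟨hcN, -⟩ := h.mem_C.1 hc
  have hsq := mul_self hto
  obtain ⟨e1, e2⟩ := h.split_unique (one_mem M) (mul_mem ha (h.conj_mem hcN ha)) (one_mem h.C) (mul_mem hc hc)
    (c := 1) (c' := c * c) (a := 1) (a' := a * (c * a * c⁻¹)) (by
      rw [one_mul, ← hsq]; group)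
  have hcz : c = z := by
    refine h.invol_C hc (order_two_of_sq e2.symm fun hc1 => ne_one hto ?_)
    rw [hc1, mul_one] at hsq ⊢
    exact h.sq_eq_one ha hsq
  rw [hcz]
  obtain ⟨e, he, hee⟩ := h.exists_sqrt ha
  refine ⟨e, he, ?_⟩
  have e3 : z * e⁻¹ * z = e := by rw [h.inv_z (inv_mem he), inv_inv]
  calc a * z = e * e * z := by rw [hee]
    _ = e * (z * e⁻¹ * z) * z := by rw [e3]
    _ = e * z * e⁻¹ * (z * z) := by group
    _ = e * z * e⁻¹ := by rw [h.z_sq, mul_one]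

theorem conj_z_inj {a b : G} (ha : a ∈ M) (hb : b ∈ M) (e : a * z * a⁻¹ = b * z * b⁻¹) : a = b := by
  have e' : (b⁻¹ * a) * z = z * (b⁻¹ * a) := by
    calc b⁻¹ * a * z = b⁻¹ * (a * z * a⁻¹) * a := by group
      _ = b⁻¹ * (b * z * b⁻¹) * a := by rw [e]
      _ = z * (b⁻¹ * a) := by group
  exact (inv_mul_eq_one.1 (h.M_inter_Cz (mul_mem (inv_mem hb) ha) e')).symm

theorem card_invol_N : Nat.card {t : G // orderOf t = 2 ∧ t ∈ h.N} = Nat.card M := by
  refine (Nat.card_eq_of_bijective (fun a : ↥M => (⟨(a : G) * z * (a : G)⁻¹, (order_conj _ _).trans h.hz,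
    mul_mem (mul_mem (h.M_le_N a.2) h.hzN) (inv_mem (h.M_le_N a.2))⟩ : {t : G // orderOf t = 2 ∧ t ∈ h.N}))
    ⟨?_, ?_⟩).symm
  · exact fun a b e => Subtype.ext (h.conj_z_inj a.2 b.2 (congrArg Subtype.val e))
  · rintro ⟨t, hto, htN⟩
    obtain ⟨a, ha, rfl⟩ := h.invol_N htN hto
    exact ⟨⟨a, ha⟩, rfl⟩

/-- Every double coset outside `N` contains an involution. -/
theorem exists_invol_coset {g : G} (hg : g ∉ h.N) :
    ∃ a ∈ M, ∃ b ∈ M, orderOf (a * g * b) = 2 := by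
  by_contra hc
  push Not at hc
  let f : (↥h.C ⊕ ↥M) ⊕ {t : G // orderOf t = 2 ∧ t ∉ h.N} → G ⧸ M
    | Sum.inl (Sum.inl c) => ((c : G) : G ⧸ M)
    | Sum.inl (Sum.inr a) => (((a : G) * g : G) : G ⧸ M)
    | Sum.inr t => ((t.1 : G) : G ⧸ M)
  have hcg : ∀ (c : h.C) (a : M), ((c : G) : G ⧸ M) ≠ (((a : G) * g : G) : G ⧸ M) := fun c a e => by
    refine hg ?_
    rw [show g = (a : G)⁻¹ * ((c : G) * ((c : G)⁻¹ * ((a : G) * g))) by group]
    exact mul_mem (inv_mem (h.M_le_N a.2)) (mul_mem (h.mem_C.1 c.2).1 (h.M_le_N (QuotientGroup.eq.1 e)))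
  have hct : ∀ (c : h.C) (t : {t : G // orderOf t = 2 ∧ t ∉ h.N}),
      ((c : G) : G ⧸ M) ≠ ((t.1 : G) : G ⧸ M) := fun c t e => t.2.2 (by
    rw [← mul_inv_cancel_left (c : G) t.1]
    exact mul_mem (h.mem_C.1 c.2).1 (h.M_le_N (QuotientGroup.eq.1 e)))
  have hgt : ∀ (a : M) (t : {t : G // orderOf t = 2 ∧ t ∉ h.N}),
      (((a : G) * g : G) : G ⧸ M) ≠ ((t.1 : G) : G ⧸ M) := fun a t e =>
    hc a a.2 _ (QuotientGroup.eq.1 e) (by rw [mul_inv_cancel_left]; exact t.2.1)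
  have hinj : Function.Injective f := by
    rintro ((c | a) | t) ((c' | a') | t') e
    · have h1 := QuotientGroup.eq.1 e
      obtain ⟨e1, e2⟩ := h.split_unique (one_mem M) h1 (mul_mem (inv_mem c.2) c'.2) (one_mem h.C)
        (a := 1) (a' := (c : G)⁻¹ * c') (c := (c : G)⁻¹ * c') (c' := 1) (by rw [one_mul, mul_one])
      rw [Subtype.ext (inv_mul_eq_one.1 e2)]
    · exact absurd e (hcg c a')
    · exact absurd e (hct c t')
    · exact absurd e.symm (hcg c' a)
    · have h1 := QuotientGroup.eq.1 e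
      rw [show ((a : G) * g)⁻¹ * ((a' : G) * g) = g⁻¹ * ((a : G)⁻¹ * a') * g⁻¹⁻¹ by group] at h1
      have h2 := h.ti' (g := g⁻¹) (fun hh => hg (by simpa using inv_mem hh)) (mul_mem (inv_mem a.2) a'.2) h1
      rw [Subtype.ext (inv_mul_eq_one.1 h2)]
    · exact absurd e (hgt a t')
    · exact absurd e.symm (hct c' t)
    · exact absurd e.symm (hgt a' t)
    · have h1 : t.1⁻¹ * t'.1 ∈ M := QuotientGroup.eq.1 e
      have h2 : t.1⁻¹ * t'.1 = 1 := by
        refine h.ti' t.2.2 h1 ?_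
        have := inv_mem h1
        rw [mul_inv_rev, inv_inv, inv_self t'.2.1] at this
        rwa [mul_inv_cancel_left, inv_self t.2.1]
      rw [Subtype.ext (inv_mul_eq_one.1 h2)]
  have h1 := Nat.card_le_card_of_injective f hinj
  rw [Nat.card_sum, Nat.card_sum, ← Subgroup.index_eq_card] at h1
  have h2 : Nat.card {t : G // orderOf t = 2} = Nat.card {t : G // orderOf t = 2 ∧ t ∈ h.N} +
      Nat.card {t : G // orderOf t = 2 ∧ t ∉ h.N} := by
    classical
    rw [← Nat.card_sum]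
    exact Nat.card_congr
      ⟨fun t => if e : t.1 ∈ h.N then Sum.inl ⟨t.1, t.2, e⟩ else Sum.inr ⟨t.1, t.2, e⟩,
        fun s => s.elim (fun t => ⟨t.1, t.2.1⟩) (fun t => ⟨t.1, t.2.1⟩),
        fun t => by by_cases e : t.1 ∈ h.N <;> simp [e],
        fun s => by rcases s with t | t <;> simp [t.2.2]⟩
  have h3 := h.big
  rw [h2, h.card_invol_N] at h3
  have h4 : 0 < Nat.card h.C := Nat.card_pos
  omega

/-- Every element outside `N` is `a v b` with `v` an involution centralizing `z`. -/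
theorem decomp {g : G} (hg : g ∉ h.N) :
    ∃ a ∈ M, ∃ b ∈ M, ∃ v : G, orderOf v = 2 ∧ v * z = z * v ∧ v ∉ h.N ∧ g = a * v * b := by
  obtain ⟨a, ha, b, hb, ht⟩ := h.exists_invol_coset hg
  obtain ⟨t, htdef⟩ : ∃ t, t = a * g * b := ⟨_, rfl⟩
  rw [← htdef] at ht
  have htN : t ∉ h.N := fun hh => hg (by
    rw [show g = a⁻¹ * t * b⁻¹ by rw [htdef]; group]
    exact mul_mem (mul_mem (inv_mem (h.M_le_N ha)) hh) (inv_mem (h.M_le_N hb)))
  obtain ⟨x, hx, y, hy, hw⟩ := h.exists_invol_coset (g := z * t) fun hh => htN (by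
    have := mul_mem h.hzN hh
    rwa [← mul_assoc, h.z_sq, one_mul] at this)
  have hp : y * x ∈ M := mul_mem hy hx
  have hsq := mul_self hw
  have e1 : (z * t)⁻¹ = y * x * (z * t) * (y * x) := by
    refine inv_eq_of_mul_eq_one_right ?_
    calc z * t * (y * x * (z * t) * (y * x)) = x⁻¹ * ((x * (z * t) * y) * (x * (z * t) * y)) * x := by group
      _ = 1 := by rw [hsq]; group
  have e2 : z * t * z = (y * x)⁻¹ * t * (y * x) := by
    have e3 : t * z = y * x * (z * t) * (y * x) := by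
      rw [← e1, mul_inv_rev, inv_self ht, h.z_inv]
    calc z * t * z = z * (t * z) := by group
      _ = (z * (y * x) * z) * t * (y * x) := by rw [e3]; group
      _ = (y * x)⁻¹ * t * (y * x) := by rw [h.inv_z hp]
  obtain ⟨e, he, hee⟩ := h.exists_sqrt (inv_mem hp)
  have hez : z * e * z = e⁻¹ := h.inv_z he
  have hez' : z * e⁻¹ * z = e := by rw [h.inv_z (inv_mem he), inv_inv]
  have hv : z * (e * t * e⁻¹) * z = e * t * e⁻¹ := by
    calc z * (e * t * e⁻¹) * z = (z * e * z⁻¹) * (z * t * z) * (z⁻¹ * e⁻¹ * z) := by group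
      _ = e⁻¹ * ((y * x)⁻¹ * t * (y * x)) * e := by rw [h.z_inv, hez, hez', e2]
      _ = (e⁻¹ * (y * x)⁻¹) * t * (e⁻¹ * (y * x)⁻¹)⁻¹ := by group
      _ = e * t * e⁻¹ := by rw [← hee, inv_mul_cancel_left]
  refine ⟨a⁻¹ * e⁻¹, mul_mem (inv_mem ha) (inv_mem he), e * b⁻¹, mul_mem he (inv_mem hb), e * t * e⁻¹,
    (order_conj _ _).trans ht, ?_, fun hh => htN ?_, ?_⟩
  · calc e * t * e⁻¹ * z = z * (e * t * e⁻¹) * z * z := by rw [hv]
      _ = z * (e * t * e⁻¹) := by rw [mul_assoc _ z z, h.z_sq, mul_one]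
  · rw [show t = e⁻¹ * (e * t * e⁻¹) * e by group]
    exact mul_mem (mul_mem (inv_mem (h.M_le_N he)) hh) (h.M_le_N he)
  · rw [htdef]; group

/-- The decomposition is unique. -/
theorem unique {a a' b b' v v' : G} (ha : a ∈ M) (ha' : a' ∈ M) (hb : b ∈ M) (hb' : b' ∈ M)
    (hv : v * z = z * v) (hv' : v' * z = z * v') (hvN : v ∉ h.N) (e : a * v * b = a' * v' * b') :
    a = a' ∧ v = v' ∧ b = b' := by
  obtain ⟨p, hp⟩ : ∃ p, p = a'⁻¹ * a := ⟨_, rfl⟩
  obtain ⟨q, hq⟩ : ∃ q, q = b * b'⁻¹ := ⟨_, rfl⟩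
  have hpM : p ∈ M := hp ▸ mul_mem (inv_mem ha') ha
  have hqM : q ∈ M := hq ▸ mul_mem hb (inv_mem hb')
  have hv2 : v' = p * v * q := by
    rw [hp, hq, show a'⁻¹ * a * v * (b * b'⁻¹) = a'⁻¹ * (a * v * b) * b'⁻¹ by group, e]
    group
  have hvz : z * v * z = v := by rw [← hv, mul_assoc, h.z_sq, mul_one]
  have hvz' : z * v' * z = v' := by rw [← hv', mul_assoc, h.z_sq, mul_one]
  have e1 : p⁻¹ * v * q⁻¹ = p * v * q := by
    calc p⁻¹ * v * q⁻¹ = (z * p * z) * (z * v * z) * (z * q * z) := by rw [h.inv_z hpM, h.inv_z hqM, hvz]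
      _ = z * p * (z * z) * v * (z * z) * q * z := by group
      _ = z * (p * v * q) * z := by rw [h.z_sq]; group
      _ = p * v * q := by rw [← hv2, hvz']
  have e2 : v⁻¹ * (p * p) * v = (q * q)⁻¹ := by
    calc v⁻¹ * (p * p) * v = v⁻¹ * p * (p * v * q) * q⁻¹ := by group
      _ = v⁻¹ * p * (p⁻¹ * v * q⁻¹) * q⁻¹ := by rw [e1]
      _ = (q * q)⁻¹ := by group
  have hp1 : p = 1 := h.sq_eq_one hpM (h.ti' (g := v⁻¹) (fun hh => hvN (by simpa using inv_mem hh))
    (mul_mem hpM hpM) (by rw [inv_inv, e2]; exact inv_mem (mul_mem hqM hqM)))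
  have hq1 : q = 1 := by
    refine h.sq_eq_one hqM ?_
    rw [hp1, one_mul, mul_one, inv_mul_cancel] at e2
    exact inv_eq_one.1 e2.symm
  rw [hp1, hq1, one_mul, mul_one] at hv2
  exact ⟨(inv_mul_eq_one.1 (hp.symm.trans hp1)).symm, hv2.symm, mul_inv_eq_one.1 (hq.symm.trans hq1)⟩

/-- Outside `N`, the centralizer of `z` consists of involutions. -/
theorem invol_out {v : G} (hv : v * z = z * v) (hvN : v ∉ h.N) : orderOf v = 2 := by
  obtain ⟨a, ha, b, hb, w, hw, hwz, -, e⟩ := h.decomp hvN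
  obtain ⟨-, e2, -⟩ := h.unique (one_mem M) ha (one_mem M) hb hv hwz hvN
    (a := 1) (b := 1) (by rw [one_mul, mul_one, e])
  rw [e2]; exact hw

theorem mem_C_of_N {v : G} (hv : v * z = z * v) (hvN : v ∈ h.N) : v ∈ h.C := h.mem_C.2 ⟨hvN, hv⟩

theorem card_group : Nat.card G + Nat.card M * Nat.card M * Nat.card h.C =
    Nat.card h.N + Nat.card M * Nat.card M * Nat.card (Cz z) := by
  classical
  haveI := Fintype.ofFinite G
  have e1 : Nat.card {v : Cz z // (v : G) ∉ h.N} + Nat.card h.C = Nat.card (Cz z) := by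
    have e : Fintype.card {v : Cz z // (v : G) ∈ h.N} = Nat.card h.C := by
      rw [← Nat.card_eq_fintype_card]
      exact Nat.card_congr ⟨fun v => ⟨v.1.1, h.mem_C_of_N (mem_Cz.1 v.1.2) v.2⟩,
        fun c => ⟨⟨c.1, mem_Cz.2 (h.mem_C.1 c.2).2⟩, (h.mem_C.1 c.2).1⟩, fun v => rfl, fun c => rfl⟩
    rw [Nat.card_eq_fintype_card, Fintype.card_subtype_compl, e, ← Nat.card_eq_fintype_card,
      Nat.sub_add_cancel]
    rw [← e, ← Nat.card_eq_fintype_card]
    exact Nat.card_le_card_of_injective _ Subtype.val_injective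
  have e2 : Nat.card {g : G // g ∉ h.N} = Nat.card M * Nat.card M * Nat.card {v : Cz z // (v : G) ∉ h.N} := by
    rw [← Nat.card_prod, ← Nat.card_prod]
    refine (Nat.card_eq_of_bijective (fun p : (↥M × ↥M) × {v : Cz z // (v : G) ∉ h.N} =>
      (⟨(p.1.1 : G) * ((p.2.1 : Cz z) : G) * (p.1.2 : G), fun hh => p.2.2 ?_⟩ : {g : G // g ∉ h.N})) ⟨?_, ?_⟩).symm
    · have := mul_mem (mul_mem (inv_mem (h.M_le_N p.1.1.2)) hh) (inv_mem (h.M_le_N p.1.2.2))
      rwa [show (p.1.1 : G)⁻¹ * ((p.1.1 : G) * ((p.2.1 : Cz z) : G) * (p.1.2 : G)) * (p.1.2 : G)⁻¹ =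
        ((p.2.1 : Cz z) : G) by group] at this
    · rintro ⟨⟨a, b⟩, v⟩ ⟨⟨a', b'⟩, v'⟩ e
      obtain ⟨x, y, w⟩ := h.unique a.2 a'.2 b.2 b'.2 (mem_Cz.1 v.1.2) (mem_Cz.1 v'.1.2) v.2
        (congrArg Subtype.val e)
      exact Prod.ext (Prod.ext (Subtype.ext x) (Subtype.ext w)) (Subtype.ext (Subtype.ext y))
    · rintro ⟨g, hg⟩
      obtain ⟨a, ha, b, hb, v, -, hvz, hvN, rfl⟩ := h.decomp hg
      exact ⟨((⟨a, ha⟩, ⟨b, hb⟩), ⟨⟨v, mem_Cz.2 hvz⟩, hvN⟩), rfl⟩
  have e3 : Nat.card h.N + Nat.card {g : G // g ∉ h.N} = Nat.card G := by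
    rw [Nat.card_eq_fintype_card (α := {g : G // g ∉ h.N}), Fintype.card_subtype_compl,
      ← Nat.card_eq_fintype_card, ← Nat.card_eq_fintype_card]
    exact Nat.add_sub_cancel' (Nat.le_of_dvd Nat.card_pos h.N.card_subgroup_dvd_card)
  rw [← e3, e2, ← e1]
  ring

theorem exists_out : ∃ v : G, v * z = z * v ∧ v ∉ h.N := by
  obtain ⟨g, hg⟩ : ∃ g, g ∉ h.N := by
    by_contra hc
    push Not at hc
    exact h.nonnormal (Subgroup.normalizer_eq_top_iff.1 ((Subgroup.eq_top_iff' _).2 hc))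
  obtain ⟨a, -, b, -, v, -, hv, hvN, -⟩ := h.decomp hg
  exact ⟨v, hv, hvN⟩

theorem invert_C {v c : G} (hv : v * z = z * v) (hvN : v ∉ h.N) (hc : c ∈ h.C) : v * c * v⁻¹ = c⁻¹ := by
  obtain ⟨hcN, hcz⟩ := h.mem_C.1 hc
  have hvc : v * c ∉ h.N := fun hh => hvN (by
    have := mul_mem hh (inv_mem hcN)
    rwa [mul_inv_cancel_right] at this)
  have hz' : (v * c) * z = z * (v * c) := by rw [mul_assoc, hcz, ← mul_assoc, hv, mul_assoc]
  have e := mul_self (h.invol_out hz' hvc)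
  rw [inv_self (h.invol_out hv hvN)]
  exact eq_inv_of_mul_eq_one_left (by rw [← e]; group)

theorem comm_C {c d : G} (hc : c ∈ h.C) (hd : d ∈ h.C) : c * d = d * c := by
  obtain ⟨v, hv, hvN⟩ := h.exists_out
  refine inv_injective ?_
  rw [← h.invert_C hv hvN (mul_mem hc hd), ← h.invert_C hv hvN (mul_mem hd hc)]
  have e1 := h.invert_C hv hvN hc
  have e2 := h.invert_C hv hvN hd
  have e3 := h.invert_C hv hvN (mul_mem hc hd)
  have e4 := h.invert_C hv hvN (mul_mem hd hc)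
  rw [e3, e4, mul_inv_rev, mul_inv_rev, ← e1, ← e2]
  have e5 : v * (c * d) * v⁻¹ = v * c * v⁻¹ * (v * d * v⁻¹) := by group
  rw [e3, mul_inv_rev, e1, e2] at e5
  rw [e1, e2, e5]

end Hyp

end Cfsg.Agent.TIInv
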