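import Cfsg.Agent.Lib.ZassAbelian.Bound
import Mathlib.RingTheory.LittleWedderburn
import Mathlib.FieldTheory.Finite.Basic
import Mathlib.Algebra.Ring.Shrink

/-!
The field carried by the abelian kernel, assuming it is irreducible under the two-point stabiliser.
-/

set_option autoImplicit false
set_option linter.style.haveILetI false
set_option linter.unusedSectionVars false

namespace Cfsg.Agent.TIInv

open Cfsg.Agent.Zass Cfsg.Agent.ZassAb MulAction

universe u v

variable {G : Type u} [Group G] [Finite G] {Ω : Type v} [MulAction G Ω] [Fintype Ω]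
variable {a b : Ω} {H : Subgroup G} (A : Ab a b H)
include A

/-- The field structure on `H`. -/
theorem exists_field_of_invariant (hinvar : ∀ W : Subgroup H, (∀ k (hk : k ∈ two (G := G) a b), ∀ w ∈ W,
      (⟨k * (w : H) * k⁻¹, A.normal k (mem_two.mp hk).1 _ (w : H).2⟩ : H) ∈ W) → W = ⊥ ∨ W = ⊤)
    (hnt : Nontrivial H)
    (habK : ∀ k ∈ two (G := G) a b, ∀ l ∈ two (G := G) a b, k * l = l * k) :
    ∃ (F : Type) (_ : Field F) (_ : Fintype F) (φ : F → H) (lam : two (G := G) a b →* F),
      Function.Bijective φ ∧ (∀ x y, φ (x + y) = φ x * φ y) ∧ Function.Injective lam ∧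
      (∀ (k : two (G := G) a b) (x : F), (k : G) * (φ x : G) * (k : G)⁻¹ = (φ (lam k * x) : G)) := by
  classical
  set K := two (G := G) a b
  letI : CommGroup H :=
    { (inferInstance : Group H) with mul_comm := fun u v => Subtype.ext (A.comm u u.2 v v.2) }
  have hKn : ∀ (k : K) (u : H), (k : G) * u * (k : G)⁻¹ ∈ H := fun k u =>
    A.normal k (mem_two.mp k.2).1 u u.2
  let ρ : K →* AddMonoid.End (Additive H) :=
    { toFun := fun k => AddMonoidHom.mk' (fun v => Additive.ofMul ⟨_, hKn k v.toMul⟩) fun v w =>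
        Subtype.ext (show (k : G) * ((v.toMul : G) * w.toMul) * (k : G)⁻¹ =
          (k : G) * v.toMul * (k : G)⁻¹ * ((k : G) * w.toMul * (k : G)⁻¹) by group)
      map_one' := AddMonoidHom.ext fun v => Subtype.ext (show ((1 : K) : G) * v.toMul * ((1 : K) : G)⁻¹ = v.toMul by simp)
      map_mul' := fun k l => AddMonoidHom.ext fun v => Subtype.ext
        (show ((k * l : K) : G) * v.toMul * ((k * l : K) : G)⁻¹ =
          (k : G) * ((l : G) * v.toMul * (l : G)⁻¹) * (k : G)⁻¹ by simp [mul_assoc]) }
  set E : Subring (AddMonoid.End (Additive H)) := Subring.closure (Set.range ρ) with hE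
  haveI hcomm : IsMulCommutative E := Subring.isMulCommutative_closure (by
    rintro _ ⟨k, rfl⟩ _ ⟨l, rfl⟩
    rw [← map_mul, ← map_mul, show k * l = l * k from Subtype.ext (habK k k.2 l l.2)])
  letI : CommRing E := { (inferInstance : Ring E) with mul_comm := mul_comm' }
  obtain ⟨u0, hu0⟩ : ∃ v : Additive H, v ≠ 0 := by
    haveI := hnt
    exact exists_ne 0
  haveI : Nontrivial E := ⟨1, 0, fun h => hu0 (congrArg (fun f : E => (f : AddMonoid.End (Additive H)) u0) h)⟩
  have hker : ∀ f : E, f ≠ 0 → ∀ v, (f : AddMonoid.End (Additive H)) v = 0 → v = 0 := by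
    intro f hf v hv
    let W : Subgroup H :=
      { carrier := {w | (f : AddMonoid.End (Additive H)) (Additive.ofMul w) = 0}
        one_mem' := map_zero (f : AddMonoid.End (Additive H))
        mul_mem' := fun {x y} hx hy => by
          show (f : AddMonoid.End (Additive H)) (Additive.ofMul x + Additive.ofMul y) = 0
          rw [map_add]
          exact (congrArg₂ (· + ·) hx hy).trans (add_zero 0)
        inv_mem' := fun {x} hx => by
          show (f : AddMonoid.End (Additive H)) (-Additive.ofMul x) = 0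
          rw [map_neg]
          exact (congrArg Neg.neg hx).trans neg_zero }
    have hinv := hinvar W fun k hk w hw => by
      have hc : f * ⟨ρ ⟨k, hk⟩, Subring.subset_closure ⟨_, rfl⟩⟩ =
          (⟨ρ ⟨k, hk⟩, Subring.subset_closure ⟨_, rfl⟩⟩ : E) * f := mul_comm _ _
      have h2 := congrArg (fun g : E => (g : AddMonoid.End (Additive H)) (Additive.ofMul w)) hc
      show (f : AddMonoid.End (Additive H)) (ρ ⟨k, hk⟩ (Additive.ofMul w)) = 0
      have h3 : (f : AddMonoid.End (Additive H)) (ρ ⟨k, hk⟩ (Additive.ofMul w)) =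
          ρ ⟨k, hk⟩ ((f : AddMonoid.End (Additive H)) (Additive.ofMul w)) := h2
      rw [h3, show (f : AddMonoid.End (Additive H)) (Additive.ofMul w) = 0 from hw, map_zero]
    rcases hinv with h | h
    · exact Subgroup.mem_bot.mp (h ▸ (show v.toMul ∈ W from hv))
    · exfalso
      refine hf (Subtype.ext (AddMonoidHom.ext fun w => ?_))
      exact (show w.toMul ∈ W from h ▸ Subgroup.mem_top _)
  haveI : NoZeroDivisors E := ⟨fun {f g} hfg => by
    by_contra h
    push Not at h
    refine h.2 (Subtype.ext (AddMonoidHom.ext fun w => hker f h.1 _ ?_))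
    exact congrArg (fun z : E => (z : AddMonoid.End (Additive H)) w) hfg⟩
  haveI : IsDomain E := NoZeroDivisors.to_isDomain E
  haveI : Finite E := Finite.of_injective
    (fun f : E => ((f : AddMonoid.End (Additive H)) : Additive H → Additive H))
    (fun f g h => Subtype.ext (DFunLike.coe_injective h))
  haveI : Fintype E := Fintype.ofFinite E
  letI : Field E := Fintype.fieldOfDomain E
  haveI : Small.{0} E := inferInstance
  let ev : E →+ Additive H :=
    AddMonoidHom.mk' (fun f => (f : AddMonoid.End (Additive H)) u0) fun f g => rfl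
  have hevinj : Function.Injective ev := (injective_iff_map_eq_zero ev).mpr fun f hf => by
    by_contra hne
    exact hu0 (hker f hne u0 hf)
  have hevsurj : Function.Surjective ev := by
    let W : Subgroup H :=
      { carrier := {w | ∃ f : E, ev f = Additive.ofMul w}
        one_mem' := ⟨0, map_zero ev⟩
        mul_mem' := fun {x y} ⟨f, hf⟩ ⟨g, hg⟩ => ⟨f + g, by rw [map_add, hf, hg]; rfl⟩
        inv_mem' := fun {x} ⟨f, hf⟩ => ⟨-f, by rw [map_neg, hf]; rfl⟩ }
    rcases hinvar W (fun k hk w hw => by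
      obtain ⟨f, hf⟩ := hw
      exact ⟨⟨ρ ⟨k, hk⟩, Subring.subset_closure ⟨_, rfl⟩⟩ * f, show ρ ⟨k, hk⟩ (ev f) = _ by rw [hf]; rfl⟩) with h | h
    · exfalso
      have h1 : u0.toMul ∈ W := ⟨1, rfl⟩
      rw [h] at h1
      exact hu0 (Subgroup.mem_bot.mp h1)
    · intro v
      exact (show v.toMul ∈ W from h ▸ Subgroup.mem_top _)
  let ι : Shrink.{0} E ≃+* E := Shrink.ringEquiv E
  letI : Fintype (Shrink.{0} E) := Fintype.ofEquiv E (equivShrink E)
  refine ⟨Shrink.{0} E, inferInstance, inferInstance, fun x => (ev (ι x)).toMul,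
    (ι.symm : E →* Shrink.{0} E).comp (ρ.codRestrict E fun k => Subring.subset_closure ⟨k, rfl⟩), ?_, ?_, ?_, ?_⟩
  · exact (Additive.toMul.bijective.comp ⟨hevinj, hevsurj⟩).comp ι.bijective
  · intro x y
    show (ev (ι (x + y))).toMul = (ev (ι x)).toMul * (ev (ι y)).toMul
    rw [map_add, map_add]
    rfl
  · intro k l hkl
    have h1 : ρ k = ρ l := congrArg Subtype.val (ι.symm.injective hkl)
    by_contra hne
    refine hu0 ?_
    have h2 : ((k : G)⁻¹ * l) * (u0.toMul : G) = (u0.toMul : G) * ((k : G)⁻¹ * l) := by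
      have h3 : (k : G) * u0.toMul * (k : G)⁻¹ = (l : G) * u0.toMul * (l : G)⁻¹ :=
        congrArg (fun f : AddMonoid.End (Additive H) => ((f u0).toMul : G)) h1
      calc ((k : G)⁻¹ * l) * (u0.toMul : G) = (k : G)⁻¹ * ((l : G) * u0.toMul * (l : G)⁻¹) * l := by group
        _ = (u0.toMul : G) * ((k : G)⁻¹ * l) := by rw [← h3]; group
    by_contra hu
    exact hne (Subtype.ext (inv_mul_eq_one.mp
      (A.eq_one_of_comm (K.mul_mem (K.inv_mem k.2) l.2) u0.toMul.2 (fun e => hu (Subtype.ext e)) h2)))
  · intro k x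
    show (k : G) * ((ev (ι x)).toMul : G) * (k : G)⁻¹ = _
    simp only [map_mul, MonoidHom.coe_comp, Function.comp_apply, RingEquiv.apply_symm_apply, MonoidHom.coe_coe]
    rfl

end Cfsg.Agent.TIInv
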