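import Cfsg.Agent.Lib.TIInv.Field
import Cfsg.Agent.Lib.Zassenhaus.Classes
import Cfsg.Agent.Lib.Classical.DicksonProper
import Mathlib.Topology.Compactification.OnePoint.ProjectiveLine
import Mathlib.FieldTheory.Finite.Basic
import Mathlib.LinearAlgebra.Matrix.GeneralLinearGroup.Defs

/-!
A sharply three-transitive group with abelian kernel and inverted two-point stabiliser is `PGL(2, F)`.
-/

set_option autoImplicit false
set_option linter.style.haveILetI false
set_option linter.unusedSectionVars false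

namespace Cfsg.Agent.TIInv

open Cfsg.Agent.Zass Cfsg.Agent.ZassAb MulAction
open scoped Matrix

universe u v

variable {G : Type u} [Group G] [Finite G] {Ω : Type v} [MulAction G Ω] [Fintype Ω]
variable {a b : Ω} {H : Subgroup G} (A : Ab a b H)
include A

theorem equiv_pgl {F : Type} [Field F] [Fintype F] (φ : F → H) (lam : two (G := G) a b →* F)
    (hφ : Function.Bijective φ) (hφadd : ∀ x y, φ (x + y) = φ x * φ y) (hlam : Function.Injective lam)
    (hact : ∀ (k : two (G := G) a b) (x : F), (k : G) * (φ x : G) * (k : G)⁻¹ = (φ (lam k * x) : G))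
    (heq : Nat.card (two (G := G) a b) = Nat.card H - 1) {s : G} (hs : Swap a b s)
    (hinv : ∀ k ∈ two (G := G) a b, s * k * s = k⁻¹) :
    Nonempty (G ≃* GL (Fin 2) F ⧸ Subgroup.center (GL (Fin 2) F)) := by
  classical
  have hq : Fintype.card F = Nat.card H := by
    rw [← Nat.card_eq_fintype_card, Nat.card_congr (Equiv.ofBijective φ hφ)]
  have hφ0 : φ 0 = 1 := by
    have h := hφadd 0 0
    rw [add_zero] at h
    exact left_eq_mul.mp h
  -- coordinates
  let Φ₀ : OnePoint F → Ω := fun x => OnePoint.rec a (fun y => (φ y : G) • b) x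
  have hΦbij : Function.Bijective Φ₀ := by
    refine ⟨fun x y hxy => ?_, fun c => ?_⟩
    · cases x with
      | infty =>
        cases y with
        | infty => rfl
        | coe y => exact absurd hxy.symm (A.smul_b_ne (φ y).2)
      | coe x =>
        cases y with
        | infty => exact absurd hxy (A.smul_b_ne (φ x).2)
        | coe y =>
          obtain ⟨w, -, hw⟩ := A.reg b _ A.ne.symm (A.smul_b_ne (φ y).2)
          exact congrArg _ (hφ.1 ((hw _ hxy).trans (hw _ rfl).symm))
    · by_cases hc : c = a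
      · exact ⟨OnePoint.infty, hc.symm⟩
      · obtain ⟨w, hw, -⟩ := A.reg b c A.ne.symm hc
        obtain ⟨y, rfl⟩ := hφ.2 w
        exact ⟨(y : OnePoint F), hw⟩
  let Φ : OnePoint F ≃ Ω := Equiv.ofBijective Φ₀ hΦbij
  have hΦi : Φ OnePoint.infty = a := rfl
  have hΦ0 : Φ (0 : F) = b := by show ((φ 0 : H) : G) • b = b; rw [hφ0]; exact one_smul G b
  have hu : ∀ α x : F, (φ α : G) • Φ (x : OnePoint F) = Φ ((x + α : F) : OnePoint F) := fun α x => by
    show (φ α : G) • ((φ x : G) • b) = (φ (x + α) : G) • b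
    rw [← mul_smul, add_comm x α, hφadd, Subgroup.coe_mul]
  have hua : ∀ α : F, (φ α : G) • Φ OnePoint.infty = Φ OnePoint.infty := fun α => A.le (φ α).2
  have hk : ∀ (k : (two (G := G) a b)) (x : F), (k : G) • Φ (x : OnePoint F) = Φ ((lam k * x : F) : OnePoint F) := fun k x => by
    show (k : G) • ((φ x : G) • b) = (φ (lam k * x) : G) • b
    rw [← hact k x, mul_smul, mul_smul, inv_smul_eq_iff.mpr (mem_two.mp k.2).2.symm]
  have hlam0 : ∀ k, lam k ≠ 0 := fun k h => by
    have h1 : lam k * lam k⁻¹ = 1 := by rw [← map_mul, mul_inv_cancel, map_one]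
    rw [h, zero_mul] at h1
    exact zero_ne_one h1
  have hsurj : ∀ x : F, x ≠ 0 → ∃ k, lam k = x := by
    intro x hx
    let f : two (G := G) a b → {y : F // y ≠ 0} := fun k => ⟨lam k, hlam0 k⟩
    have hc : Nat.card (two (G := G) a b) = Nat.card {y : F // y ≠ 0} := by
      rw [heq, Nat.card_eq_fintype_card (α := {y : F // y ≠ 0}), Fintype.card_subtype_compl,
        Fintype.card_subtype_eq, hq]
    obtain ⟨k, hk'⟩ := ((Nat.bijective_iff_injective_and_card f).2
      ⟨fun k l e => hlam (congrArg Subtype.val e), hc⟩).2 ⟨x, hx⟩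
    exact ⟨k, congrArg Subtype.val hk'⟩
  have hsa : s • Φ OnePoint.infty = Φ (0 : F) := by rw [hΦi, hΦ0]; exact hs.sa
  have hsb : s • Φ (0 : F) = Φ OnePoint.infty := by rw [hΦi, hΦ0]; exact hs.sb
  obtain ⟨c, hc0, hc1⟩ : ∃ c : F, c ≠ 0 ∧ s • Φ ((1 : F) : OnePoint F) = Φ (c : OnePoint F) := by
    cases hy : Φ.symm (s • Φ ((1 : F) : OnePoint F)) with
    | infty =>
      exfalso
      have h1 : s • Φ ((1 : F) : OnePoint F) = Φ OnePoint.infty := by rw [← hy, Equiv.apply_symm_apply]
      rw [← hsb] at h1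
      exact one_ne_zero (α := F) (OnePoint.coe_injective (Φ.injective ((smul_left_cancel_iff s).mp h1)))
    | coe y =>
      have h1 : s • Φ ((1 : F) : OnePoint F) = Φ (y : OnePoint F) := by rw [← hy, Equiv.apply_symm_apply]
      refine ⟨y, fun h0 => ?_, h1⟩
      rw [h0, ← hsa] at h1
      exact OnePoint.coe_ne_infty (1 : F) (Φ.injective ((smul_left_cancel_iff s).mp h1))
  have hlinv : ∀ k, lam k⁻¹ = (lam k)⁻¹ := fun k =>
    eq_inv_of_mul_eq_one_left (by rw [← map_mul, inv_mul_cancel, map_one])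
  have hS : ∀ x : F, x ≠ 0 → s • Φ (x : OnePoint F) = Φ ((c / x : F) : OnePoint F) := by
    intro x hx
    obtain ⟨k, rfl⟩ := hsurj x hx
    have h1 : s * (k : G) = ((k⁻¹ : (two (G := G) a b)) : G) * s := by
      rw [Subgroup.coe_inv, ← hinv k k.2, mul_assoc, hs.sq, mul_one]
    have h2 : s • ((k : G) • Φ ((1 : F) : OnePoint F)) =
        ((k⁻¹ : (two (G := G) a b)) : G) • (s • Φ ((1 : F) : OnePoint F)) := by
      rw [← mul_smul, h1, mul_smul]
    rw [hk, hc1, hk, mul_one, hlinv] at h2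
    rw [h2, div_eq_inv_mul]
  let θ₀ : GL (Fin 2) F →* Equiv.Perm Ω :=
    Φ.permCongrHom.toMonoidHom.comp (MulAction.toPermHom (GL (Fin 2) F) (OnePoint F))
  have hθ : ∀ (g : GL (Fin 2) F) (x : OnePoint F), θ₀ g (Φ x) = Φ (g • x) := fun g x => by
    simp [θ₀, Equiv.permCongrHom, Equiv.permCongr_apply]
  let σ : G →* Equiv.Perm Ω := MulAction.toPermHom G Ω
  haveI := A.zg.1
  have hσinj : Function.Injective σ := MulAction.toPerm_injective
  have hmem : ∀ (g : G) (p q r t : F), p * t - q * r ≠ 0 →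
      g • Φ OnePoint.infty = Φ (if r = 0 then OnePoint.infty else ((p / r : F) : OnePoint F)) →
      (∀ x : F, g • Φ (x : OnePoint F) =
        Φ (if r * x + t = 0 then OnePoint.infty else (((p * x + q) / (r * x + t) : F) : OnePoint F))) →
      σ g ∈ θ₀.range := by
    intro g p q r t hdet hi hx
    let Mx : GL (Fin 2) F := Matrix.GeneralLinearGroup.mkOfDetNeZero !![p, q; r, t]
      (by rw [Matrix.det_fin_two_of]; exact hdet)
    have m00 : Mx 0 0 = p := rfl
    have m01 : Mx 0 1 = q := rfl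
    have m10 : Mx 1 0 = r := rfl
    have m11 : Mx 1 1 = t := rfl
    refine ⟨Mx, Equiv.ext fun w => ?_⟩
    obtain ⟨x, rfl⟩ := Φ.surjective w
    refine (hθ Mx x).trans ?_
    show _ = g • Φ x
    cases x with
    | infty => rw [hi, OnePoint.smul_infty_eq_ite, m00, m10]
    | coe x => rw [hx x, OnePoint.smul_some_eq_ite, m00, m01, m10, m11]
  have hu_mem : ∀ α : F, σ (φ α : G) ∈ θ₀.range := fun α =>
    hmem _ 1 α 0 1 (by simp) (by rw [hua, if_pos rfl]) fun x => by
      rw [hu, if_neg (by simp)]; simp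
  have hs_mem : σ s ∈ θ₀.range := by
    refine hmem _ 0 c 1 0 (by simpa using hc0) ?_ fun x => ?_
    · rw [hsa, if_neg one_ne_zero, zero_div]
    · by_cases hx : x = 0
      · subst hx; rw [hsb, if_pos (by ring)]
      · rw [hS x hx, if_neg (by simp [hx])]
        congr 2
        ring
  have hk_mem : ∀ k : (two (G := G) a b), σ (k : G) ∈ θ₀.range := fun k => by
    refine hmem _ (lam k) 0 0 1 (by simpa using hlam0 k) ?_ fun x => ?_
    · rw [if_pos rfl, hΦi]; exact (mem_two.mp k.2).1
    · rw [hk, if_neg (by simp)]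
      congr 2
      ring
  have hstab : ∀ g : G, g • a = a → σ g ∈ θ₀.range := fun g hga => by
    obtain ⟨w, hw, -⟩ := A.reg b (g • b) A.ne.symm
      (fun h => A.ne.symm ((smul_left_cancel_iff g).mp (h.trans hga.symm)))
    obtain ⟨α, rfl⟩ := hφ.2 w
    have hkm : (φ α : G)⁻¹ * g ∈ (two (G := G) a b) := mem_two.mpr
      ⟨by rw [mul_smul, hga]; exact inv_smul_eq_iff.mpr (A.le (φ α).2).symm,
        by rw [mul_smul, ← hw, inv_smul_smul]⟩
    have := Subgroup.mul_mem _ (hu_mem α) (hk_mem ⟨_, hkm⟩)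
    rwa [← map_mul, mul_inv_cancel_left] at this
  have hrange : σ.range ≤ θ₀.range := by
    rintro _ ⟨g, rfl⟩
    by_cases hga : g • a = a
    · exact hstab g hga
    obtain ⟨w, hw, -⟩ := A.reg b (g • a) A.ne.symm hga
    obtain ⟨α, rfl⟩ := hφ.2 w
    have h1 : (((φ α : G) * s)⁻¹ * g) • a = a := by
      rw [mul_smul, inv_smul_eq_iff, mul_smul, hs.sa, hw]
    have := Subgroup.mul_mem _ (Subgroup.mul_mem _ (hu_mem α) hs_mem) (hstab _ h1)
    rwa [← map_mul, ← map_mul, mul_inv_cancel_left] at this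
  have hker : Subgroup.center (GL (Fin 2) F) ≤ θ₀.ker := by
    intro w hw
    rw [Matrix.GeneralLinearGroup.center_eq_range_scalar] at hw
    obtain ⟨r, rfl⟩ := hw
    refine MonoidHom.mem_ker.mpr (Equiv.ext fun x => ?_)
    obtain ⟨x, rfl⟩ := Φ.surjective x
    refine (hθ _ x).trans ?_
    have hr0 : (r : F) ≠ 0 := r.ne_zero
    cases x with
    | infty => rw [OnePoint.smul_infty_eq_ite]; simp
    | coe x => rw [OnePoint.smul_some_eq_ite]; simp [hr0]
  let θ : GL (Fin 2) F ⧸ Subgroup.center (GL (Fin 2) F) →* Equiv.Perm Ω := QuotientGroup.lift _ θ₀ hker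
  have hθr : θ₀.range ≤ θ.range := by
    rintro _ ⟨g, rfl⟩
    exact ⟨QuotientGroup.mk g, rfl⟩
  haveI : Finite (GL (Fin 2) F ⧸ Subgroup.center (GL (Fin 2) F)) := Quotient.finite _
  have hGcard : Nat.card G = Nat.card (GL (Fin 2) F ⧸ Subgroup.center (GL (Fin 2) F)) := by
    have h : Nat.card (GL (Fin 2) F ⧸ Subgroup.center (GL (Fin 2) F)) =
        Nat.card F * (Nat.card F ^ 2 - 1) := Dickson.card_pgl2
    have e : Nat.card H ^ 2 - 1 = (Nat.card H + 1) * (Nat.card H - 1) := by
      simpa using Nat.sq_sub_sq (Nat.card H) 1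
    rw [h, Nat.card_eq_fintype_card (α := F), hq, A.card_group, heq, e]
    ring
  have hle : σ.range ≤ θ.range := hrange.trans hθr
  have hσc : Nat.card σ.range = Nat.card G := Nat.card_congr (MonoidHom.ofInjective hσinj).toEquiv.symm
  have hθc : Nat.card θ.range ≤ Nat.card (GL (Fin 2) F ⧸ Subgroup.center (GL (Fin 2) F)) :=
    Nat.card_le_card_of_surjective θ.rangeRestrict θ.rangeRestrict_surjective
  have heq' : σ.range = θ.range := Subgroup.eq_of_le_of_card_ge hle (by omega)
  have hbij : Function.Bijective θ.rangeRestrict :=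
    (Nat.bijective_iff_surjective_and_card _).mpr ⟨θ.rangeRestrict_surjective, by rw [← heq']; omega⟩
  exact ⟨(MonoidHom.ofInjective hσinj).trans
    ((MulEquiv.subgroupCongr heq').trans (MulEquiv.ofBijective θ.rangeRestrict hbij).symm)⟩

end Cfsg.Agent.TIInv
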