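import Cfsg.Agent.Lib.TIInv.Basic
import Cfsg.Agent.Lib.TIInv.PGL
import Cfsg.Agent.Lib.ZassAbelian.Main
import Cfsg.Agent.Lib.TwoGroups.Lifts
import Cfsg.Prelude.Def_Transfer
import Mathlib.GroupTheory.GroupAction.MultiplePrimitivity

/-!
The case `|C(z) : C| = 2`: `PGL(2, q)`, `PSL(2, q)` or the symmetric group of degree four.
-/

set_option autoImplicit false
set_option linter.style.haveILetI false
set_option linter.unusedSectionVars false

namespace Cfsg.Agent.TIInv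

open Cfsg.Agent.Invol MulAction

universe u

variable {G : Type u} [Group G] [Finite G]

namespace Hyp

variable {M : Subgroup G} {z : G} (h : Hyp M z) (hA : Nat.card (Cz z) = 2 * Nat.card h.C)
include h hA

theorem index_two : (h.N.subgroupOf (Cz z)).index = 2 := by
  have e := (h.N.subgroupOf (Cz z)).card_mul_index
  have e1 : Nat.card (h.N.subgroupOf (Cz z)) = Nat.card h.C := Nat.card_congr
    ⟨fun x => ⟨x.1.1, h.mem_C_of_N (mem_Cz.1 x.1.2) x.2⟩,
      fun c => ⟨⟨c.1, mem_Cz.2 (h.mem_C.1 c.2).2⟩, (h.mem_C.1 c.2).1⟩, fun x => rfl, fun c => rfl⟩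
  rw [e1, hA, mul_comm 2] at e
  exact Nat.eq_of_mul_eq_mul_left Nat.card_pos e

theorem mul_mem_N {v w : G} (hv : v * z = z * v) (hvN : v ∉ h.N) (hw : w * z = z * w) (hwN : w ∉ h.N) :
    v * w ∈ h.C := by
  refine h.mem_C_of_N ((Commute.mul_left (hv : Commute v z) (hw : Commute w z)).eq) ?_
  exact (Subgroup.mul_mem_iff_of_index_two (h.index_two hA) (a := ⟨v, mem_Cz.2 hv⟩)
    (b := ⟨w, mem_Cz.2 hw⟩)).2 ⟨fun e => absurd e hvN, fun e => absurd e hwN⟩

omit hA in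
theorem fix_base {g : G} : g • ((1 : G) : G ⧸ h.N) = ((1 : G) : G ⧸ h.N) ↔ g ∈ h.N := by
  rw [MulAction.Quotient.smul_mk, QuotientGroup.eq, smul_eq_mul, mul_one, mul_one, Subgroup.inv_mem_iff]

omit hA in
theorem smul_base {g : G} : g • ((1 : G) : G ⧸ h.N) = (g : G ⧸ h.N) := by
  rw [MulAction.Quotient.smul_mk, smul_eq_mul, mul_one]

theorem trans_M {v : G} (hv : v * z = z * v) (hvN : v ∉ h.N) {p : G ⧸ h.N}
    (hp : p ≠ ((1 : G) : G ⧸ h.N)) : ∃ a ∈ M, a • (v : G ⧸ h.N) = p := by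
  obtain ⟨g, rfl⟩ := QuotientGroup.mk_surjective p
  have hgN : g ∉ h.N := fun hh => hp (QuotientGroup.eq.2 (by rw [mul_one]; exact inv_mem hh))
  obtain ⟨a, ha, b, hb, w, hw, hwz, hwN, rfl⟩ := h.decomp hgN
  refine ⟨a, ha, ?_⟩
  rw [MulAction.Quotient.smul_mk, smul_eq_mul, QuotientGroup.eq,
    show (a * v)⁻¹ * (a * w * b) = v⁻¹ * w * b by group, inv_self (h.invol_out hv hvN)]
  exact mul_mem (h.mem_C.1 (h.mul_mem_N hA hv hvN hwz hwN)).1 (h.M_le_N hb)

variable {v : G} (hv : v * z = z * v) (hvN : v ∉ h.N)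
include hv hvN

omit hA in
theorem free {a : G} (ha : a ∈ M) (e : a • (v : G ⧸ h.N) = v) : a = 1 := by
  rw [MulAction.Quotient.smul_mk, smul_eq_mul, QuotientGroup.eq] at e
  have e' : v⁻¹ * a * v ∈ h.N := by
    have := inv_mem e
    rwa [show ((a * v)⁻¹ * v)⁻¹ = v⁻¹ * a * v by group] at this
  obtain ⟨x, hx, c, hc, e2⟩ := h.split e'
  obtain ⟨hcN, hcz⟩ := h.mem_C.1 hc
  have hvc : v * c ∉ h.N := fun hh => hvN (by
    have := mul_mem hh (inv_mem hcN)
    rwa [mul_inv_cancel_right] at this)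
  obtain ⟨r, -, -⟩ := h.unique ha (one_mem M) (one_mem M) (h.conj_mem (inv_mem hcN) hx)
    (v := v) (v' := v * c) hv ((Commute.mul_left (hv : Commute v z) (hcz : Commute c z)).eq) hvN (b := 1) (by
      rw [mul_one, one_mul, show v * c * (c⁻¹ * x * c⁻¹⁻¹) = v * (x * c) by group, ← e2]; group)
  exact r

omit hA in
theorem fix_C {c : G} (hc : c ∈ h.C) : c • (v : G ⧸ h.N) = v := by
  have e := h.invert_C hv hvN hc
  rw [MulAction.Quotient.smul_mk, smul_eq_mul, QuotientGroup.eq,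
    show (c * v)⁻¹ * v = v⁻¹ * c⁻¹ * v by group, ← e, show v⁻¹ * (v * c * v⁻¹) * v = c by group]
  exact (h.mem_C.1 hc).1

omit hA in
theorem stab_two {g : G} (hg : g ∈ h.N) (e : g • (v : G ⧸ h.N) = v) : g ∈ h.C := by
  obtain ⟨a, ha, c, hc, rfl⟩ := h.split hg
  rw [mul_smul, h.fix_C hv hvN hc] at e
  rw [h.free hv hvN ha e, one_mul]
  exact hc

omit hA in
theorem comm_of_fix {a c : G} (ha : a ∈ M) (hc : c ∈ h.C) (e : c • (a • (v : G ⧸ h.N)) = a • (v : G ⧸ h.N)) :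
    c * a = a * c := by
  have h1 : (a⁻¹ * (c * a * c⁻¹)) • (v : G ⧸ h.N) = v := by
    rw [mul_smul, mul_smul, mul_smul, h.fix_C hv hvN (inv_mem hc), e, inv_smul_smul]
  have h2 := inv_mul_eq_one.1 (h.free hv hvN (mul_mem (inv_mem ha) (h.conj_mem (h.mem_C.1 hc).1 ha)) h1)
  conv_rhs => rw [h2]
  group

/-- `C` acts semiregularly on `M`. -/
theorem semireg {c a : G} (hc : c ∈ h.C) (hc1 : c ≠ 1) (ha : a ∈ M) (hca : c * a = a * c) : a = 1 := by
  by_contra ha1
  set x₀ : G ⧸ h.N := ((1 : G) : G ⧸ h.N) with hx₀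
  set y₀ : G ⧸ h.N := (v : G ⧸ h.N) with hy₀
  have hvo := h.invol_out hv hvN
  have hvv := mul_self hvo
  obtain ⟨hcN, hcz⟩ := h.mem_C.1 hc
  -- `c` has odd order
  have hcne : c ≠ c⁻¹ := by
    intro e
    have h2 : c * c = 1 := by nth_rewrite 2 [e]; exact mul_inv_cancel c
    have := h.invol_C hc (order_two_of_sq h2 hc1)
    rw [this] at hca
    exact ha1 (h.no_comm ha h.hz hca)
  have hinv : v * c * v⁻¹ = c⁻¹ := h.invert_C hv hvN hc
  have hvc : ∀ x : G, c * x = x * c → c * (v * x * v) = v * x * v * c := by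
    intro x hx
    have e1 : c * v = v * c⁻¹ := by
      rw [← hinv, inv_self hvo, show v * (v * c * v) = (v * v) * (c * v) by group, hvv, one_mul]
    have e2 : c⁻¹ * x = x * c⁻¹ := (Commute.inv_left (hx : Commute c x)).eq
    have e3 : c⁻¹ * v = v * c := by
      rw [← hinv, inv_self hvo, mul_assoc, hvv, mul_one]
    calc c * (v * x * v) = (c * v) * x * v := by group
      _ = v * (c⁻¹ * x) * v := by rw [e1, mul_assoc v]
      _ = v * x * (c⁻¹ * v) := by rw [e2]; group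
      _ = v * x * v * c := by rw [e3]; group
  have hfixv : ∀ p : G ⧸ h.N, c • p = p → c • (v • p) = v • p := by
    intro p hp
    have hp' : c⁻¹ • p = p := by rw [inv_smul_eq_iff, hp]
    have e1 : c * v = v * c⁻¹ := by
      rw [← hinv, inv_self hvo, show v * (v * c * v) = (v * v) * (c * v) by group, hvv, one_mul]
    rw [← mul_smul, e1, mul_smul, hp']
  have hvx : v • x₀ = y₀ := h.smul_base
  have hvy : v • y₀ = x₀ := by rw [← hvx, ← mul_smul, hvv, one_smul]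
  have hax : a • x₀ = x₀ := h.fix_base.2 (h.M_le_N ha)
  have hcy : c • y₀ = y₀ := h.fix_C hv hvN hc
  have hp : c • (a • y₀) = a • y₀ := by rw [← mul_smul, hca, mul_smul, hcy]
  have hne : v • (a • y₀) ≠ x₀ := fun e => ha1 (h.free hv hvN ha (by
    rw [← hy₀]; exact smul_left_cancel v (e.trans hvy.symm)))
  obtain ⟨e, he, hee⟩ := h.trans_M hA hv hvN hne
  have hec : c * e = e * c := h.comm_of_fix hv hvN he hc (by rw [hee]; exact hfixv _ hp)
  have he1 : e ≠ 1 := fun e1 => by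
    rw [e1, one_smul] at hee
    have h5 : a • y₀ = x₀ := by
      have h6 := congrArg (fun p => v • p) hee
      simp only [← hy₀] at h6
      rw [hvy, ← mul_smul, hvv, one_smul] at h6
      exact h6.symm
    exact hvN (h.fix_base.1 (hvx.trans (smul_left_cancel a (h5.trans hax.symm))))
  have hqne : v • (e⁻¹ • y₀) ≠ x₀ := fun e2 => he1 (inv_eq_one.1 (h.free hv hvN (inv_mem he) (by
    rw [← hy₀]; exact smul_left_cancel v (e2.trans hvy.symm))))
  have hqc : c • (e⁻¹ • y₀) = e⁻¹ • y₀ := by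
    rw [← mul_smul, (Commute.inv_right (hec : Commute c e)).eq, mul_smul, hcy]
  obtain ⟨e', he', hee'⟩ := h.trans_M hA hv hvN hqne
  have hec' : c * e' = e' * c := h.comm_of_fix hv hvN he' hc (by rw [hee']; exact hfixv _ hqc)
  have hex : e'⁻¹ • x₀ = x₀ := h.fix_base.2 (h.M_le_N (inv_mem he'))
  obtain ⟨k, hk⟩ : ∃ k, k = v * e'⁻¹ * v * (e⁻¹ * (v * a * v)) := ⟨_, rfl⟩
  have hkx : k • x₀ = y₀ := by
    rw [hk]
    simp only [mul_smul]
    rw [hvx, ← hee, inv_smul_smul, hvy, hex, hvx]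
  have hky : k • y₀ = x₀ := by
    rw [hk]
    simp only [mul_smul]
    rw [hvy, hax, hvx, ← hee', inv_smul_smul, hvy]
  have hkc : c * k = k * c := by
    rw [hk]
    exact (Commute.mul_right (hvc _ (Commute.inv_right (hec' : Commute c e')).eq)
      (Commute.mul_right (Commute.inv_right (hec : Commute c e)) (hvc a hca))).eq
  have hd : v * k ∈ h.C := h.stab_two hv hvN (h.fix_base.1 (by rw [mul_smul, ← hx₀, hkx, hvy]))
    (by rw [mul_smul, ← hy₀, hky, hvx])
  have h3 := h.comm_C hc hd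
  refine hcne ?_
  rw [← hinv]
  have h4 : c * v = v * c := by
    refine mul_right_cancel (b := k) ?_
    rw [mul_assoc c v k, h3, mul_assoc v k c, ← hkc, mul_assoc]
  rw [← h4, mul_inv_cancel_right]

theorem three {g : G} {p q : G ⧸ h.N} (hp : p ≠ ((1 : G) : G ⧸ h.N)) (hq : q ≠ ((1 : G) : G ⧸ h.N))
    (hpq : p ≠ q) (h0 : g • ((1 : G) : G ⧸ h.N) = ((1 : G) : G ⧸ h.N)) (h1 : g • p = p) (h2 : g • q = q) :
    g = 1 := by
  obtain ⟨a, ha, rfl⟩ := h.trans_M hA hv hvN hp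
  obtain ⟨a', ha', rfl⟩ := h.trans_M hA hv hvN hq
  have hg : g ∈ h.N := h.fix_base.1 h0
  have hg' : a⁻¹ * g * a ∈ h.C := h.stab_two hv hvN
    (mul_mem (mul_mem (inv_mem (h.M_le_N ha)) hg) (h.M_le_N ha))
    (by rw [mul_smul, mul_smul, h1, inv_smul_smul])
  have hcm := h.comm_of_fix hv hvN (mul_mem (inv_mem ha) ha') hg' (by
    simp only [mul_smul, smul_inv_smul]; rw [h2])
  by_contra hne
  have := h.semireg hA hv hvN hg' (fun e => hne (conj_eq_one_iff.1 (show a⁻¹ * g * a⁻¹⁻¹ = 1 by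
    rwa [inv_inv]))) (mul_mem (inv_mem ha) ha') hcm
  exact hpq (by rw [inv_mul_eq_one.1 this])

omit hv hvN in
/-- With a regular normal subgroup we get the symmetric group of degree four. -/
theorem affine_four (R : Subgroup G) (hR : R.Normal) (hRt : MulAction.IsPretransitive R (G ⧸ h.N))
    (hRs : ∀ p : G ⧸ h.N, MulAction.stabilizer R p = ⊥) :
    ∃ (d : ℕ) (E : Subgroup G), 1 ≤ d ∧ E.Normal ∧ Cfsg.IsElementaryAbelian 2 E ∧ Nat.card E = 2 ^ (2 * d) ∧
      E ⊓ Subgroup.normalizer (M : Set G) = ⊥ ∧ E ⊔ Subgroup.normalizer (M : Set G) = ⊤ ∧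
      Nonempty (↥(Subgroup.normalizer (M : Set G)) ≃* DihedralGroup (2 ^ d + 1)) := by
  classical
  haveI := hRt
  haveI := Fintype.ofFinite G
  obtain ⟨v, hv, hvN⟩ := h.exists_out
  set x₀ : G ⧸ h.N := ((1 : G) : G ⧸ h.N) with hx₀
  set y₀ : G ⧸ h.N := (v : G ⧸ h.N) with hy₀
  have hyx : y₀ ≠ x₀ := fun e => hvN (h.fix_base.1 (h.smul_base.trans e))
  have hRN : R ⊓ h.N = ⊥ := by
    rw [Subgroup.eq_bot_iff_forall]
    rintro x ⟨hxR, hxN⟩
    have h1 : (⟨x, hxR⟩ : R) ∈ MulAction.stabilizer R x₀ := h.fix_base.2 hxN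
    rw [hRs, Subgroup.mem_bot] at h1
    exact congrArg Subtype.val h1
  have hinj : ∀ r r' : R, (r : G) • x₀ = (r' : G) • x₀ → r = r' := by
    intro r r' e
    have h1 : r'⁻¹ * r ∈ MulAction.stabilizer R x₀ := by
      show ((r'⁻¹ * r : R) : G) • x₀ = x₀
      rw [Subgroup.coe_mul, Subgroup.coe_inv, mul_smul, e, inv_smul_smul]
    rw [hRs, Subgroup.mem_bot] at h1
    exact (inv_mul_eq_one.1 h1).symm
  have hRΩ : Nat.card R = Nat.card (G ⧸ h.N) := Nat.card_eq_of_bijective (fun r : R => (r : G) • x₀)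
    ⟨fun r r' => hinj r r', fun p => (MulAction.exists_smul_eq R x₀ p)⟩
  have hΩ : Nat.card (G ⧸ h.N) = Nat.card M + 1 := by
    rw [← Nat.card_congr (Equiv.optionSubtypeNe x₀), Finite.card_option]
    congr 1
    refine (Nat.card_eq_of_bijective (fun a : ↥M => (⟨(a : G) • y₀, fun e => hyx ?_⟩ :
      {p : G ⧸ h.N // p ≠ x₀})) ⟨?_, ?_⟩).symm
    · exact smul_left_cancel (a : G) (e.trans (h.fix_base.2 (h.M_le_N a.2)).symm)
    · intro a a' e
      have e' : (a : G) • y₀ = (a' : G) • y₀ := congrArg Subtype.val e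
      exact (Subtype.ext (inv_mul_eq_one.1 (h.free hv hvN (mul_mem (inv_mem a'.2) a.2)
        (by rw [mul_smul, ← hy₀, e', inv_smul_smul])))).symm
    · rintro ⟨p, hp⟩
      obtain ⟨a, ha, e⟩ := h.trans_M hA hv hvN hp
      exact ⟨⟨a, ha⟩, Subtype.ext e⟩
  have hRev : Even (Nat.card R) := by
    rw [hRΩ, hΩ]; exact h.odd_card.add_one
  obtain ⟨t, htR, hto⟩ := exists_invol hRev
  have hsq : ∀ r ∈ R, r * r = 1 := by
    intro r hr
    by_cases hr1 : r = 1
    · rw [hr1, one_mul]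
    have hne : ∀ s ∈ R, s ≠ 1 → s • x₀ ≠ x₀ := fun s hs hs1 e => hs1 (Subgroup.mem_bot.1
      (hRN ▸ ⟨hs, h.fix_base.1 e⟩ : s ∈ (⊥ : Subgroup G)))
    obtain ⟨a, ha, hea⟩ := h.trans_M hA hv hvN (hne r hr hr1)
    obtain ⟨a', ha', hea'⟩ := h.trans_M hA hv hvN (hne t htR (ne_one hto))
    have hmem : a * a'⁻¹ * t * (a * a'⁻¹)⁻¹ ∈ R := hR.conj_mem t htR _
    have hfx : (a * a'⁻¹)⁻¹ • x₀ = x₀ := h.fix_base.2 (inv_mem (h.M_le_N (mul_mem ha (inv_mem ha'))))
    have := congrArg Subtype.val (hinj ⟨_, hmem⟩ ⟨r, hr⟩ (by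
      show (a * a'⁻¹ * t * (a * a'⁻¹)⁻¹) • x₀ = r • x₀
      rw [mul_smul, hfx, mul_smul, mul_smul, ← hea', inv_smul_smul, hea]))
    rw [← show a * a'⁻¹ * t * (a * a'⁻¹)⁻¹ = r from this]
    exact mul_self ((order_conj _ t).trans hto)
  have hRcomm : IsMulCommutative R := ⟨⟨fun a b => Subtype.ext (by
    have hs' : ∀ x ∈ R, x⁻¹ = x := fun x hx => sq_of_conj_inv (hsq x hx)
    show (a : G) * b = b * a
    rw [← hs' _ (mul_mem a.2 b.2), mul_inv_rev, hs' _ a.2, hs' _ b.2])⟩⟩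
  -- `|R| ≤ 4`
  let f : ↥R →* ↥R := MonoidHom.mk' (fun r => ⟨(r : G) * (z * (r : G) * z⁻¹), mul_mem r.2 (hR.conj_mem _ r.2 z)⟩)
    fun r r' => Subtype.ext (by
      show (r : G) * r' * (z * ((r : G) * r') * z⁻¹) = r * (z * r * z⁻¹) * (r' * (z * r' * z⁻¹))
      have hc : (r' : G) * (z * r * z⁻¹) = (z * r * z⁻¹) * r' :=
        congrArg Subtype.val (hRcomm.is_comm.comm r' ⟨_, hR.conj_mem _ r.2 z⟩)
      rw [show (r : G) * (z * r * z⁻¹) * (r' * (z * r' * z⁻¹)) = r * (z * r * z⁻¹ * r') * (z * r' * z⁻¹) by group,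
        ← hc]
      group)
  have hfix : ∀ r : R, (z * (r : G) * z⁻¹ = r) → (r : G) * z = z * r := fun r e => by
    conv_lhs => rw [← e]
    group
  have hCR : Nat.card {r : R // (r : G) * z = z * r} ≤ 2 := by
    by_contra hc
    push Not at hc
    haveI := Fintype.ofFinite {r : R // (r : G) * z = z * r}
    rw [Nat.card_eq_fintype_card] at hc
    obtain ⟨a, -, b, -, c, -, hab, hac, hbc⟩ := Fintype.two_lt_card_iff.1 hc |> fun ⟨a, b, c, p, q, r⟩ =>
      (⟨a, trivial, b, trivial, c, trivial, p, q, r⟩ : ∃ a, True ∧ ∃ b, True ∧ ∃ c, True ∧ a ≠ b ∧ a ≠ c ∧ b ≠ c)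
    have key : ∀ r r' : {r : R // (r : G) * z = z * r}, (r.1 : G) ≠ 1 → (r'.1 : G) ≠ 1 → r = r' := by
      intro r r' hr hr'
      have hN : ∀ s : {r : R // (r : G) * z = z * r}, (s.1 : G) ≠ 1 → (s.1 : G) ∉ h.N := fun s hs hh =>
        hs (Subgroup.mem_bot.1 (hRN ▸ ⟨s.1.2, hh⟩ : (s.1 : G) ∈ (⊥ : Subgroup G)))
      have h1 : (r.1 : G) * (r'.1 : G) ∈ R ⊓ h.N := Subgroup.mem_inf.2
        ⟨mul_mem r.1.2 r'.1.2, (h.mem_C.1 (h.mul_mem_N hA r.2 (hN r hr) r'.2 (hN r' hr'))).1⟩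
      rw [hRN, Subgroup.mem_bot] at h1
      exact Subtype.ext (Subtype.ext ((eq_inv_of_mul_eq_one_left h1).trans (sq_of_conj_inv (hsq _ r'.1.2))))
    by_cases ha1 : (a.1 : G) = 1
    · have hb1 : (b.1 : G) ≠ 1 := fun e => hab (Subtype.ext (Subtype.ext (ha1.trans e.symm)))
      have hc1 : (c.1 : G) ≠ 1 := fun e => hac (Subtype.ext (Subtype.ext (ha1.trans e.symm)))
      exact hbc (key b c hb1 hc1)
    · by_cases hb1 : (b.1 : G) = 1
      · have hc1 : (c.1 : G) ≠ 1 := fun e => hbc (Subtype.ext (Subtype.ext (hb1.trans e.symm)))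
        exact hac (key a c ha1 hc1)
      · exact hab (key a b ha1 hb1)
  have hR4 : Nat.card R ≤ 4 := by
    rw [← f.ker.card_mul_index, Subgroup.index_ker]
    refine Nat.mul_le_mul (le_trans (Nat.card_le_card_of_injective (fun r : f.ker =>
      (⟨r.1, hfix r.1 ?_⟩ : {r : R // (r : G) * z = z * r})) fun a b e => Subtype.ext (congrArg (fun y : {r : R // (r : G) * z = z * r} => y.1) e :)) hCR)
      (le_trans (Nat.card_le_card_of_injective (fun y : f.range =>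
        (⟨y.1, hfix y.1 ?_⟩ : {r : R // (r : G) * z = z * r})) fun a b e => Subtype.ext (congrArg (fun y : {r : R // (r : G) * z = z * r} => y.1) e :)) hCR)
    · have e : ((r.1 : G)) * (z * (r.1 : G) * z⁻¹) = 1 := congrArg Subtype.val r.2
      exact (eq_inv_of_mul_eq_one_right e).trans (sq_of_conj_inv (hsq _ r.1.2))
    · obtain ⟨r, hr⟩ := y.2
      rw [← show (r : G) * (z * (r : G) * z⁻¹) = (y.1 : G) from congrArg Subtype.val hr,
        show z * ((r : G) * (z * r * z⁻¹)) * z⁻¹ = (z * r * z⁻¹) * ((z * z) * r * (z * z)⁻¹) by group, h.z_sq,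
        one_mul, inv_one, mul_one]
      exact congrArg Subtype.val (hRcomm.is_comm.comm ⟨_, hR.conj_mem _ r.2 z⟩ r)
  rw [hRΩ, hΩ] at hR4
  have hm : Nat.card M = 3 := by
    have h1 : 1 < Nat.card M := Subgroup.one_lt_card_iff_ne_bot M |>.2 h.ne
    obtain ⟨i, hi⟩ := h.odd_card
    omega
  haveI : Fact (Nat.Prime 3) := ⟨Nat.prime_three⟩
  obtain ⟨a, hgen⟩ := (isCyclic_of_prime_card (α := M) hm).exists_generator
  have hMz : Subgroup.zpowers (a : G) = M := le_antisymm (Subgroup.zpowers_le.2 a.2) fun x hx => by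
    obtain ⟨i, hi⟩ := hgen ⟨x, hx⟩
    exact ⟨i, congrArg Subtype.val hi⟩
  have ha1 : (a : G) ≠ 1 := by
    intro e
    rw [e, Subgroup.zpowers_one_eq_bot] at hMz
    exact h.ne hMz.symm
  have hC2 : Nat.card h.C ≤ 2 := by
    have e : Nat.card {x : M // x ≠ 1} = 2 := by
      rw [Nat.card_eq_fintype_card, Fintype.card_subtype_compl, Fintype.card_subtype_eq,
        ← Nat.card_eq_fintype_card, hm]
    rw [← e]
    refine Nat.card_le_card_of_injective (fun c : ↥h.C => (⟨⟨(c : G) * a * (c : G)⁻¹,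
      h.conj_mem (h.mem_C.1 c.2).1 a.2⟩, fun e' => ha1 (conj_eq_one_iff.1 (congrArg Subtype.val e'))⟩ :
      {x : M // x ≠ 1})) ?_
    intro c c' e'
    have e2 : (c : G) * a * (c : G)⁻¹ = (c' : G) * a * (c' : G)⁻¹ :=
      congrArg (fun x : {x : M // x ≠ 1} => ((x : M) : G)) e'
    by_contra hne
    refine ha1 (h.semireg hA hv hvN (mul_mem (inv_mem c'.2) c.2)
      (fun e3 => hne (Subtype.ext (inv_mul_eq_one.1 e3).symm)) a.2 ?_)
    calc (c' : G)⁻¹ * c * a = (c' : G)⁻¹ * (c * a * (c : G)⁻¹) * c := by group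
      _ = (c' : G)⁻¹ * (c' * a * (c' : G)⁻¹) * c := by rw [e2]
      _ = a * ((c' : G)⁻¹ * c) := by group
  have hC : ∀ c ∈ h.C, c = 1 ∨ c = z := by
    intro c hc
    by_contra hcc
    push Not at hcc
    haveI := Fintype.ofFinite h.C
    have h3 : 2 < Fintype.card h.C := Fintype.two_lt_card_iff.2 ⟨1, ⟨z, h.z_mem_C⟩, ⟨c, hc⟩,
      fun e => ne_one h.hz (congrArg Subtype.val e).symm, fun e => hcc.1 (congrArg Subtype.val e).symm,
      fun e => hcc.2 (congrArg Subtype.val e).symm⟩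
    rw [← Nat.card_eq_fintype_card] at h3
    omega
  have hNcl : h.N = Subgroup.closure ({(a : G), z} : Set G) := by
    refine le_antisymm (fun x hx => ?_) ((Subgroup.closure_le _).2 ?_)
    · obtain ⟨b, hb, c, hc, rfl⟩ := h.split hx
      refine mul_mem ?_ ?_
      · rw [← hMz] at hb
        exact Subgroup.zpowers_le.2 (Subgroup.subset_closure (Set.mem_insert _ _)) hb
      · rcases hC c hc with hc1 | hc1 <;> rw [hc1]
        · exact one_mem _
        · exact Subgroup.subset_closure (Or.inr rfl)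
    · rintro x (rfl | rfl)
      · exact h.M_le_N a.2
      · exact h.hzN
  refine ⟨1, R, le_rfl, hR, ⟨hRcomm, fun x hx => by rw [pow_two]; exact hsq x hx⟩, ?_, hRN, ?_, ?_⟩
  · rw [hRΩ, hΩ, hm]; norm_num
  · rw [Subgroup.eq_top_iff']
    intro g
    obtain ⟨r, hr⟩ := MulAction.exists_smul_eq R x₀ (g • x₀)
    have hr' : (r : G) • x₀ = g • x₀ := hr
    have hmem : (r : G)⁻¹ * g ∈ h.N := h.fix_base.1 (by rw [mul_smul, ← hx₀, ← hr', inv_smul_smul])
    rw [← mul_inv_cancel_left (r : G) g]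
    exact mul_mem (Subgroup.mem_sup_left r.2) (Subgroup.mem_sup_right hmem)
  · refine TwoLift.dihedral_equiv ?_ h.z_sq ?_ ?_ hNcl
    · rw [← Nat.card_zpowers, hMz, hm]; norm_num
    · rw [h.z_inv]; exact h.inv_z a.2
    · rw [hMz]
      exact fun hzM => ne_one h.hz (h.M_inter_Cz hzM rfl)

omit hv hvN in
/-- No regular normal subgroup: `PGL(2, q)` or `PSL(2, q)`. -/
theorem linear (hno : ∀ R : Subgroup G, R.Normal → MulAction.IsPretransitive R (G ⧸ h.N) →
      ∃ p : G ⧸ h.N, MulAction.stabilizer R p ≠ ⊥) :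
    ∃ (F : Type) (_ : Field F) (_ : Fintype F) (p : ℕ) (_ : Fact p.Prime) (_ : CharP F p),
      Fintype.card F = Nat.card M ∧ Cfsg.IsElementaryAbelian p M ∧
        (Nonempty (G ≃* (GL (Fin 2) F ⧸ Subgroup.center (GL (Fin 2) F))) ∨
         (Fintype.card F % 4 = 1 ∧ Nonempty (G ≃* Matrix.ProjectiveSpecialLinearGroup (Fin 2) F))) := by
  classical
  obtain ⟨v, hv, hvN⟩ := h.exists_out
  haveI := Fintype.ofFinite (G ⧸ h.N)
  set x₀ : G ⧸ h.N := ((1 : G) : G ⧸ h.N) with hx₀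
  set y₀ : G ⧸ h.N := (v : G ⧸ h.N) with hy₀
  have hvo := h.invol_out hv hvN
  have hyx : y₀ ≠ x₀ := fun e => hvN (h.fix_base.1 (h.smul_base.trans e))
  have hfixN : ∀ a ∈ h.N, a • x₀ = x₀ := fun a ha => h.fix_base.2 ha
  have hmove : ∀ p : G ⧸ h.N, ∃ g : G, g • p = x₀ := fun p => by
    obtain ⟨g, rfl⟩ := QuotientGroup.mk_surjective p
    exact ⟨g⁻¹, by rw [← h.smul_base, inv_smul_smul]⟩
  have hthree : ∀ g : G, ∀ b c : G ⧸ h.N, b ≠ x₀ → c ≠ x₀ → b ≠ c → g • x₀ = x₀ → g • b = b → g • c = c → g = 1 :=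
    fun g b c hb hc hbc h1 h2 h3 => h.three hA hv hvN hb hc hbc h1 h2 h3
  obtain ⟨a₀, ha₀, ha₀1⟩ : ∃ a ∈ M, a ≠ 1 := by
    by_contra hall
    push Not at hall
    exact h.ne ((Subgroup.eq_bot_iff_forall _).2 hall)
  have hzg : Cfsg.IsZassenhausGroup G (G ⧸ h.N) := by
    refine ⟨⟨fun {g g'} e => ?_⟩, MulAction.is_two_pretransitive_iff.2 ?_, ?_,
      ⟨z, ne_one h.hz, x₀, y₀, hyx.symm, hfixN z h.hzN, h.fix_C hv hvN h.z_mem_C⟩, hno⟩
    · refine (inv_mul_eq_one.1 ?_).symm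
      have hall : ∀ p : G ⧸ h.N, (g'⁻¹ * g) • p = p := fun p => by rw [mul_smul, e, inv_smul_smul]
      refine hthree _ y₀ (a₀ • y₀) hyx
        (fun e' => hyx (smul_left_cancel a₀ (e'.trans (hfixN a₀ (h.M_le_N ha₀)).symm)))
        (fun e' => ha₀1 (h.free hv hvN ha₀ e'.symm)) (hall _) (hall _) (hall _)
    · intro a b c d hab hcd
      obtain ⟨g₁, hg₁⟩ := hmove a
      obtain ⟨g₂, hg₂⟩ := hmove c
      obtain ⟨a₁, ha₁, e₁⟩ := h.trans_M hA hv hvN (p := g₁ • b) fun e => hab (smul_left_cancel g₁ (hg₁.trans e.symm))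
      obtain ⟨a₂, ha₂, e₂⟩ := h.trans_M hA hv hvN (p := g₂ • d) fun e => hcd (smul_left_cancel g₂ (hg₂.trans e.symm))
      refine ⟨g₂⁻¹ * a₂ * a₁⁻¹ * g₁, ?_, ?_⟩
      · rw [mul_smul, hg₁, mul_smul, hfixN _ (inv_mem (h.M_le_N ha₁)), mul_smul,
          hfixN _ (h.M_le_N ha₂), inv_smul_eq_iff, hg₂]
      · rw [mul_smul, ← e₁, mul_smul, inv_smul_smul, mul_smul, e₂, inv_smul_smul]
    · intro g a b c hab hbc hac h1 h2 h3
      obtain ⟨g₁, hg₁⟩ := hmove a
      have hc : ∀ p : G ⧸ h.N, g • p = p → (g₁ * g * g₁⁻¹) • (g₁ • p) = g₁ • p := fun p hp => by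
        rw [mul_smul, inv_smul_smul, mul_smul, hp]
      have := hthree (g₁ * g * g₁⁻¹) (g₁ • b) (g₁ • c)
        (fun e => hab (smul_left_cancel g₁ (hg₁.trans e.symm)))
        (fun e => hac (smul_left_cancel g₁ (hg₁.trans e.symm))) (fun e => hbc (smul_left_cancel g₁ e))
        (by rw [← hg₁]; exact hc a h1) (hc b h2) (hc c h3)
      exact conj_eq_one_iff.1 this
  have hAb : ZassAb.Ab x₀ y₀ M :=
    { zg := hzg
      ne := hyx.symm
      le := fun a ha => mem_stabilizer_iff.2 (hfixN a (h.M_le_N ha))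
      normal := fun g hg a ha => h.conj_mem (h.fix_base.1 hg) ha
      comm := fun a ha b hb => h.comm ha hb
      reg := fun p q hp hq => by
        obtain ⟨a, ha, e⟩ := h.trans_M hA hv hvN hp
        obtain ⟨b, hb, e'⟩ := h.trans_M hA hv hvN hq
        refine ⟨⟨b * a⁻¹, mul_mem hb (inv_mem ha)⟩, ?_, fun c hc => Subtype.ext ?_⟩
        · show (b * a⁻¹) • p = q
          rw [← e, ← e', mul_smul, inv_smul_smul]
        have hc' : (c : G) • p = q := hc
        have h1 : (b⁻¹ * ((c : G) * a)) • y₀ = y₀ := by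
          rw [mul_smul, mul_smul, hy₀, e, hc', ← e', inv_smul_smul]
        have h2 := inv_mul_eq_one.1 (h.free hv hvN (mul_mem (inv_mem hb) (mul_mem c.2 ha)) h1)
        show (c : G) = b * a⁻¹
        rw [h2, mul_inv_cancel_right] }
  have htwo : (Zass.two (G := G) x₀ y₀) = h.C := by
    ext g
    rw [Subgroup.mem_inf (p := stabilizer G x₀) (p' := stabilizer G y₀), mem_stabilizer_iff, mem_stabilizer_iff]
    exact ⟨fun hg => h.stab_two hv hvN (h.fix_base.1 hg.1) hg.2,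
      fun hg => ⟨hfixN g (h.mem_C.1 hg).1, h.fix_C hv hvN hg⟩⟩
  have hswap : Zass.Swap x₀ y₀ v :=
    ⟨h.smul_base, by rw [hy₀, MulAction.Quotient.smul_mk, smul_eq_mul, mul_self hvo], mul_self hvo⟩
  have hinv : ∀ k ∈ Zass.two (G := G) x₀ y₀, v * k * v = k⁻¹ := fun k hk => by
    rw [htwo] at hk
    have := h.invert_C hv hvN hk
    rwa [inv_self hvo] at this
  have habK : ∀ k ∈ Zass.two (G := G) x₀ y₀, ∀ l ∈ Zass.two (G := G) x₀ y₀, k * l = l * k :=
    fun k hk l hl => h.comm_C (htwo ▸ hk) (htwo ▸ hl)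
  have hC2 : 2 ∣ Nat.card h.C := by rw [← h.hz]; exact Subgroup.orderOf_dvd_natCard _ h.z_mem_C
  have htc : Nat.card (Zass.two (G := G) x₀ y₀) = Nat.card h.C := by rw [htwo]
  have helem : ∀ (F : Type) [Field F] (φ : F → M) (p : ℕ) [CharP F p], Function.Bijective φ →
      (∀ x y, φ (x + y) = φ x * φ y) → Cfsg.IsElementaryAbelian p M := by
    intro F _ φ p _ hφ hadd
    refine ⟨⟨⟨fun a b => Subtype.ext (h.comm a.2 b.2)⟩⟩, fun x hx => ?_⟩
    obtain ⟨y, hy⟩ := hφ.2 ⟨x, hx⟩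
    have h0 : φ 0 = 1 := by
      have h' := hadd 0 0
      rw [add_zero] at h'
      exact left_eq_mul.mp h'
    have hn : ∀ n : ℕ, φ (n • y) = φ y ^ n := by
      intro n
      induction n with
      | zero => rw [zero_smul, pow_zero, h0]
      | succ k ih => rw [succ_nsmul, hadd, ih, pow_succ]
    have e := hn p
    rw [nsmul_eq_mul, CharP.cast_eq_zero, zero_mul, h0, hy] at e
    exact (congrArg Subtype.val e).symm
  rcases hAb.dichotomy with hd | ⟨hd, -⟩
  · have hnt : Nontrivial M := M.nontrivial_iff_ne_bot.2 h.ne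
    have hinvar : ∀ W : Subgroup M, (∀ k (hk : k ∈ Zass.two (G := G) x₀ y₀), ∀ w ∈ W,
        (⟨k * (w : M) * k⁻¹, hAb.normal k (Zass.mem_two.mp hk).1 _ (w : M).2⟩ : M) ∈ W) → W = ⊥ ∨ W = ⊤ := by
      intro W hW
      by_cases hW1 : W = ⊥
      · exact Or.inl hW1
      obtain ⟨w, hwW, hw1⟩ : ∃ w ∈ W, w ≠ 1 := by
        by_contra hall
        push Not at hall
        exact hW1 ((Subgroup.eq_bot_iff_forall _).2 hall)
      refine Or.inr (Subgroup.eq_top_of_le_card W ?_)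
      have hle : Nat.card (Zass.two (G := G) x₀ y₀) ≤ Nat.card {x : W // x ≠ 1} := by
        refine Nat.card_le_card_of_injective (fun k : ↥(Zass.two (G := G) x₀ y₀) =>
          (⟨⟨_, hW k.1 k.2 w hwW⟩, fun e => hw1 (Subtype.ext (conj_eq_one_iff.1
            (congrArg (fun x : W => ((x : M) : G)) e)))⟩ : {x : W // x ≠ 1})) ?_
        intro k k' e
        have e' : (k : G) * (w : G) * (k : G)⁻¹ = (k' : G) * (w : G) * (k' : G)⁻¹ :=
          congrArg (fun x : {x : W // x ≠ 1} => (((x : W) : M) : G)) e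
        by_contra hne
        have hm : (k' : G)⁻¹ * k ∈ h.C := htwo ▸ mul_mem (inv_mem k'.2) k.2
        refine hw1 (Subtype.ext (h.semireg hA hv hvN hm
          (fun e3 => hne (Subtype.ext (inv_mul_eq_one.1 e3).symm)) w.2 ?_))
        calc (k' : G)⁻¹ * k * w = (k' : G)⁻¹ * (k * w * (k : G)⁻¹) * k := by group
          _ = (k' : G)⁻¹ * (k' * w * (k' : G)⁻¹) * k := by rw [e']
          _ = w * ((k' : G)⁻¹ * k) := by group
      haveI := Fintype.ofFinite W
      rw [hd, Nat.card_eq_fintype_card (α := {x : W // x ≠ 1}), Fintype.card_subtype_compl,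
        Fintype.card_subtype_eq, ← Nat.card_eq_fintype_card (α := W)] at hle
      have : 0 < Nat.card M := Nat.card_pos
      have : 0 < Nat.card W := Nat.card_pos
      omega
    obtain ⟨F, _, _, φ, lam, hφ, hadd, hlam, hact⟩ := exists_field_of_invariant hAb hinvar hnt habK
    obtain ⟨p, hp⟩ := CharP.exists F
    haveI := hp
    haveI : Fact p.Prime := ⟨CharP.char_is_prime F p⟩
    refine ⟨F, inferInstance, inferInstance, p, inferInstance, inferInstance, ?_, helem F φ p hφ hadd,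
      Or.inl (equiv_pgl hAb φ lam hφ hadd hlam hact hd hswap hinv)⟩
    rw [← Nat.card_eq_fintype_card, Nat.card_congr (Equiv.ofBijective φ hφ)]
  · obtain ⟨F, _, _, φ, lam, hφ, hadd, hlam, hact⟩ := hAb.exists_field hd habK
    obtain ⟨-, hiso⟩ := hAb.equiv_psl φ lam hφ hadd hlam hact hd hswap hinv
    obtain ⟨p, hp⟩ := CharP.exists F
    haveI := hp
    haveI : Fact p.Prime := ⟨CharP.char_is_prime F p⟩
    have hF : Fintype.card F = Nat.card M := by
      rw [← Nat.card_eq_fintype_card, Nat.card_congr (Equiv.ofBijective φ hφ)]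
    refine ⟨F, inferInstance, inferInstance, p, inferInstance, inferInstance, hF, helem F φ p hφ hadd,
      Or.inr ⟨?_, hiso⟩⟩
    rw [htc] at hd
    obtain ⟨i, hi⟩ := hC2
    obtain ⟨l, hl⟩ := h.odd_card
    rw [hF]
    omega

end Hyp

end Cfsg.Agent.TIInv
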